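import Cfsg.Agent.H611.S8.Deg
import Cfsg.Agent.H990.TC.Univ
import Cfsg.Agent.S2055
import Cfsg.Agent.H816.Fin24
import Cfsg.Agent.H111.LD.MinDeg
import Cfsg.Agent.H529.S8.Cov

/-!
# S4908: the row COVER of `Fi24'` (helper611)
-/

set_option autoImplicit false
set_option maxRecDepth 10000

open Cfsg Cfsg.Agent.Characters.Core Cfsg.Agent.H424.DegTools

namespace Cfsg.Agent.H611.S8.Cover

open Cfsg.Agent.H52.ThreeFi24 Cfsg.Agent.H51.Mult
open Cfsg.Agent.H704.S8 (Deg)

universe u v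

/-! ### The degrees of `Fi24'` -/

theorem not_pow {c i : ℕ} (h : 783 * c * 3 ^ i ∣ 1255205709190661721292800) : i ≤ 13 := by
  by_contra hi
  have h1 : 3 ^ 17 ∣ 783 * c * 3 ^ i := by
    have h2 : 3 ^ 14 ∣ 3 ^ i := pow_dvd_pow 3 (by omega)
    have h3 : 3 ^ 17 = 27 * 3 ^ 14 := by norm_num
    rw [h3]
    exact mul_dvd_mul ((show (27 : ℕ) ∣ 783 by norm_num).mul_right c) h2
  exact absurd (h1.trans h) (by norm_num)

/-- no degree of `Fi24'` is `783 * 3 ^ i` or `1566 * 3 ^ i` -/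
theorem not_deg (χ : IrrCharacter Spor.Fi24') (i : ℕ) :
    charDegree (χ : Spor.Fi24' → ℂ) ≠ 783 * 3 ^ i ∧ charDegree (χ : Spor.Fi24' → ℂ) ≠ 783 * 2 * 3 ^ i := by
  have hfin : Finite Spor.Fi24' := Cfsg.Agent.H48.OreFi.finite'
  have hdvd : charDegree (χ : Spor.Fi24' → ℂ) ∣ 1255205709190661721292800 := by
    rw [← Cfsg.Agent.H26.Ore.Fi24Deg.card_F']
    exact Blocks.Knorr.charDegree_dvd χ.2
  have h17 := Cfsg.Agent.H26.Ore.Fi24Deg.res17 χ
  have h23 := Cfsg.Agent.H26.Ore.Fi24Deg.res23 χ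
  have hmin := Cfsg.Agent.H111.LD.A3 χ
  constructor
  · intro h
    rw [h] at hdvd h17 h23 hmin
    have hi := not_pow (c := 1) (i := i) (by rw [mul_one]; exact hdvd)
    interval_cases i <;> omega
  · intro h
    rw [h] at hdvd h17 h23
    have hi := not_pow (c := 2) (i := i) hdvd
    interval_cases i <;> omega

/-- the degree sets of the two almost simple groups -/
theorem mem_D {X : Type v} [Group X] (hX : Spor.IsoFi24' X) {D : Set ℕ} (hD : Deg 2 X D) {e : ℕ} (he : e ∈ D) :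
    ∃ χ : IrrCharacter Spor.Fi24', e = charDegree (χ : Spor.Fi24' → ℂ) ∨ e = 2 * charDegree (χ : Spor.Fi24' → ℂ) := by
  obtain ⟨f⟩ := hX
  have hfin := Cfsg.Agent.R08.FiTwentyFour.finite_Fi24
  rcases hD with rfl | ⟨-, rfl⟩
  · rw [charDegrees_congr f] at he
    obtain ⟨χ, hχ⟩ := he
    exact ⟨χ, Or.inl hχ.symm⟩
  · obtain ⟨g⟩ := Cfsg.Agent.H816.Fin24.fi24_mulAut
    rw [charDegrees_congr ((MulAut.congr f).trans g.symm)] at he
    rcases Cfsg.Agent.H109.S8.deg_index_two (commutator Spor.Fi24) Cfsg.Agent.R08.FiTwentyFour.index_commutator he with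
      h | ⟨χ, -, d, -, h1, -, h2⟩
    · obtain ⟨χ, hχ⟩ := h
      exact ⟨χ, Or.inl hχ.symm⟩
    · refine ⟨χ, Or.inr ?_⟩
      rw [h2, Cfsg.Agent.Blocks.Knorr.charDegree_eq χ.2] at *
      have h3 : charDegree (χ : Spor.Fi24' → ℂ) = d := by exact_mod_cast h1
      rw [h3]

theorem not_mem {X : Type v} [Group X] (hX : Spor.IsoFi24' X) {D : Set ℕ} (hD : Deg 2 X D) (i : ℕ) :
    783 * 3 ^ i ∉ D ∧ 2 * (783 * 3 ^ i) ∉ D := by
  constructor
  · intro h
    obtain ⟨χ, h1 | h1⟩ := mem_D hX hD h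
    · exact (not_deg χ i).1 h1.symm
    · have h2 : Odd (783 * 3 ^ i) := Odd.mul (by decide) (Odd.pow (by decide))
      rw [h1] at h2
      exact absurd h2 (by simp)
  · intro h
    obtain ⟨χ, h1 | h1⟩ := mem_D hX hD h
    · exact (not_deg χ i).2 (by rw [← h1]; ring)
    · exact (not_deg χ i).1 (Nat.eq_of_mul_eq_mul_left (by norm_num) h1).symm

/-! ### The row -/

theorem card_ker_L : Nat.card π3.ker = 3 := by
  have h1 : Nat.card π3.ker ≤ 3 := by
    rw [← card_ker]
    refine Nat.card_le_card_of_injective (fun z : π3.ker => (⟨z.1.1, by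
      rw [MonoidHom.mem_ker, ← π3_coe, MonoidHom.mem_ker.1 z.2]; rfl⟩ : q3.ker)) fun a b hab => ?_
    have h2 : (a.1.1 : Cfsg.Agent.R08.TThree.P3) = b.1.1 := congrArg (fun z : q3.ker => z.1) hab
    exact Subtype.ext (Subtype.ext h2)
  exact le_antisymm h1 (Nat.le_of_dvd Nat.card_pos card_ker_π3)

/-- **COVER for `Fi24'`** -/
theorem cover {X : Type v} [Group X] (hX : Spor.IsoFi24' X) {D : Set ℕ} (hD : Deg 2 X D) :
    Cfsg.Agent.H704.S8.Cover.{u} D X := by
  intro N _ _ V _ r hr hV hc hp he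
  obtain ⟨e⟩ := he
  obtain ⟨f⟩ := id hX
  have hfin' : Finite Spor.Fi24' := Cfsg.Agent.H48.OreFi.finite'
  let π : N →* Spor.Fi24' := (e.trans f).toMonoidHom.comp (QuotientGroup.mk' V)
  have hker : π.ker = V := by
    ext x
    rw [MonoidHom.mem_ker]
    constructor
    · intro h
      have h1 : (e.trans f) (x : N ⧸ V) = 1 := h
      rw [map_eq_one_iff _ (e.trans f).injective] at h1
      exact (QuotientGroup.eq_one_iff x).1 h1
    · intro h
      show (e.trans f) (x : N ⧸ V) = 1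
      rw [(QuotientGroup.eq_one_iff x).2 h, map_one]
  have hπ : PCE π := ⟨(e.trans f).surjective.comp (QuotientGroup.mk'_surjective V), by rw [hker]; exact hc, hp⟩
  have hcd : Nat.card π3.ker = Nat.card (Multiplicative (ZMod 3)) := by
    rw [card_ker_L]; simp
  obtain ⟨θ, hθ⟩ := Cfsg.Agent.H990.TC.exists_surj_of_card Cfsg.Agent.S2055.result pce hcd hπ
  have hN : Nat.card N = r * Nat.card Spor.Fi24' := by
    rw [← Subgroup.card_mul_index V, hV, Subgroup.index, Nat.card_congr (e.trans f).toEquiv]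
  have hL : Nat.card L3 = 3 * Nat.card Spor.Fi24' := by
    rw [← Subgroup.card_mul_index π3.ker, card_ker_L, Subgroup.index_ker,
      MonoidHom.range_eq_top.2 pce.surj, Subgroup.card_top]
  have hpos : 0 < Nat.card Spor.Fi24' := Nat.card_pos
  have hr3 : r = 3 := by
    have h1 : Nat.card N ∣ Nat.card L3 := Subgroup.card_dvd_of_surjective θ hθ
    rw [hN, hL] at h1
    exact (Nat.prime_dvd_prime_iff_eq hr Nat.prime_three).1 (Nat.dvd_of_mul_dvd_mul_right hpos h1)
  subst hr3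
  have hbij : Function.Bijective θ := by
    rw [Nat.bijective_iff_surjective_and_card]
    exact ⟨hθ, by rw [hN, hL]⟩
  let E : L3 ≃* N := MulEquiv.ofBijective θ hbij
  obtain ⟨ψ, h1, ⟨v, hv, h2⟩, h3⟩ := Cfsg.Agent.H611.S8.Deg.exists_783
  refine ⟨ψ ∘ E.symm.toMonoidHom, 783, isIrr_comp E.symm.toMonoidHom E.symm.surjective h1, ⟨E v, ?_, ?_⟩, ?_,
    fun i => not_mem hX hD i⟩
  · -- the centre
    have h4 : E v ∈ Subgroup.center N := by
      rw [Subgroup.mem_center_iff]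
      intro g
      obtain ⟨g', rfl⟩ := E.surjective g
      rw [← map_mul, ← map_mul, Subgroup.mem_center_iff.1 (pce.cen hv) g']
    rw [← hker, MonoidHom.mem_ker]
    have hs : IsSimpleGroup Spor.Fi24' := Cfsg.Agent.R08.FiTwentyFour.isFi24'.1
    have h5 : π (E v) ∈ Subgroup.center Spor.Fi24' := by
      rw [Subgroup.mem_center_iff]
      intro g
      obtain ⟨g', rfl⟩ := hπ.surj g
      rw [← map_mul, ← map_mul, Subgroup.mem_center_iff.1 h4 g']
    have h6 : Subgroup.center Spor.Fi24' = ⊥ := by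
      rcases IsSimpleGroup.eq_bot_or_eq_top_of_normal (Subgroup.center Spor.Fi24') inferInstance with h7 | h7
      · exact h7
      · exfalso
        apply Cfsg.Agent.H26.Ore.Fi24Deg.not_comm
        refine ⟨⟨fun a b => ?_⟩⟩
        exact (Subgroup.mem_center_iff.1 (by rw [h7]; exact Subgroup.mem_top b) a)
    rw [h6, Subgroup.mem_bot] at h5
    exact h5
  · show ψ (E.symm (E v)) ≠ ψ (E.symm 1)
    rw [MulEquiv.symm_apply_apply, map_one]
    exact h2
  · show ψ (E.symm 1) = _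
    rw [map_one, h3]
    norm_num

/-- the final form -/
theorem cover3 {X : Type v} [Group X] (hX : Spor.IsoFi24' X) {D : Set ℕ} (hD : Deg 2 X D) :
    Cfsg.Agent.H704.S8.Cover3.{u} 2 D X := Cfsg.Agent.H704.S8.Cover.final (cover.{u} hX hD)

/-- the form at the prime 3 -/
theorem coverAt {X : Type v} [Group X] (hX : Spor.IsoFi24' X) {D : Set ℕ} (hD : Deg 2 X D) :
    Cfsg.Agent.H529.S8.CoverAt.{u} 3 2 D X := Cfsg.Agent.H529.S8.CoverAt.of_cover3 Nat.prime_three (cover3 hX hD)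

end Cfsg.Agent.H611.S8.Cover
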