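import Cfsg.Agent.H52.ThreeFi24Chk

/-! Kernel check in the triple cover of `Fi24`: a transposition commuting with `l` and (in `Fi24`) with `k`. -/

set_option autoImplicit false
set_option maxRecDepth 100000

namespace Cfsg.Agent.H611.S8

open Cfsg.Agent.Lib.PermNet Cfsg.Agent.Fischer.Fi24RepLib Cfsg.Agent.Fischer.TriDef Cfsg.Agent.Fischer.Fi24RepDef
open Cfsg.Agent.H52.ThreeFi24Chk

/-- the first half -/
def tA : List Cfsg.Spor.Fi24.Gen := [.a, .b, .c, .d, .h, .i, .e, .d, .h, .f, .g, .e, .f, .c, .d, .e, .b, .c, .d, .h, .i, .f, .d, .e, .b, .c, .d, .h,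
  .a, .b, .c, .d, .e, .f, .g]

/-- the transposition -/
def tw : List Cfsg.Spor.Fi24.Gen := tA ++ .j :: tA.reverse

/-- in the triple cover it does not commute with `k` -/
theorem tk_ne : Nat.beq (im (tw ++ .k :: (tw ++ [.k]))) 0 = false := by decide +kernel

end Cfsg.Agent.H611.S8
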