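import Cfsg.Agent.H109.S8.AutDeg
import Cfsg.Agent.H674.Codegree
import Cfsg.Agent.CharDeep.DegreeBound

/-!
# Restriction to a subgroup of index two when a central element is inverted outside (helper611, for S4908)
-/

set_option autoImplicit false

open scoped ComplexConjugate
open Cfsg Cfsg.Agent.Characters.Core Cfsg.Agent.Characters.Clifford Cfsg.Agent.H424.DegTools

namespace Cfsg.Agent.H611.S8.Half

universe u v

variable {G : Type u} [Group G] [Finite G]

/-- an element on which an irreducible character takes its degree acts trivially -/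
theorem apply_mul {χ : G → ℂ} (hχ : IsIrrCharacter G χ) {z : G} (hz : χ z = χ 1) (g : G) : χ (z * g) = χ g := by
  obtain ⟨n, ρ, hρ, rfl⟩ := hχ
  have h1 := (Cfsg.Agent.S0139.result ρ z).1 (by rw [← Representation.char_one ρ]; exact hz)
  have h2 : ρ (z * g) = ρ g := by
    rw [map_mul, h1]
    rfl
  rw [Representation.character, Representation.character, h2]

theorem exists_half (N : Subgroup G) [N.Normal] (h2 : N.index = 2) {χ : G → ℂ} (hχ : IsIrrCharacter G χ) {z : G}
    (hzN : z ∈ N) (hzc : ∀ n ∈ N, n * z = z * n) (t : G) (ht : t * z * t⁻¹ = z⁻¹) (h3 : z * z = z⁻¹)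
    (hne : χ z ≠ χ 1) :
    ∃ ψ : N → ℂ, IsIrrCharacter N ψ ∧ ψ ⟨z, hzN⟩ ≠ ψ 1 ∧ χ 1 = 2 * ψ 1 := by
  classical
  have := Fintype.ofFinite G
  have := Fintype.ofFinite N
  have := finite_irr (G := N)
  have := Fintype.ofFinite (IrrCharacter N)
  have hψN := isCharacter_restrict N (isIrr_isCharacter hχ)
  rcases Cfsg.Agent.CharactersDeep.PrimeIndex.norm_restrict_prime_index N Nat.prime_two h2 hχ with h | h
  · exfalso
    have hirr := isIrr_of_classInner_self hψN h
    have hzc' : (⟨z, hzN⟩ : N) ∈ Subgroup.center N := by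
      rw [Subgroup.mem_center_iff]
      intro n
      exact Subtype.ext (hzc n n.2)
    obtain ⟨w, hw1, hw⟩ := Cfsg.Agent.CharDeep.DegreeBound.exists_omega hirr hzc'
    have e1 : χ z = w * χ 1 := by
      have := hw 1
      simpa using this
    have e2 : χ (z * z) = w * χ z := hw ⟨z, hzN⟩
    have e3 : χ z⁻¹ = χ z := by
      rw [← ht]
      obtain ⟨n, ρ, hρ, rfl⟩ := hχ
      exact Representation.char_conj ρ z t
    rw [h3, e3, e1] at e2
    have h10 : χ 1 ≠ 0 := isIrr_apply_one_ne_zero hχ
    have hw0 : w ≠ 0 := by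
      rintro rfl
      rw [norm_zero] at hw1
      exact absurd hw1 (by norm_num)
    have e4 : w = 1 := by
      have h5 : w * (w * χ 1) = w * χ 1 := e2.symm
      have h6 := mul_left_cancel₀ hw0 h5
      have h7 : w * χ 1 = 1 * χ 1 := by rw [one_mul]; exact h6
      exact mul_right_cancel₀ h10 h7
    rw [e4, one_mul] at e1
    exact hne e1
  · obtain ⟨m, hm⟩ := exists_nat_comb hψN
    have hcoef : ∀ η : IrrCharacter N, classInner (fun n : N => χ n) (η : N → ℂ) = m η := fun η => by
      rw [hm, classInner_sum_nsmul_irr]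
    have hsq : ∑ η : IrrCharacter N, m η ^ 2 = 2 := by
      have h1 := classInner_sum_smul_sum_smul (G := N) (fun η => (m η : ℂ)) (fun η => (m η : ℂ))
      simp only [Nat.cast_smul_eq_nsmul] at h1
      rw [← hm, h] at h1
      have h3 : ((∑ η : IrrCharacter N, m η ^ 2 : ℕ) : ℂ) = ((2 : ℕ) : ℂ) := by
        rw [h1]
        push_cast
        refine Finset.sum_congr rfl fun η _ => ?_
        rw [Complex.conj_natCast, sq]
      exact_mod_cast h3
    -- the multiplicities are at most one
    have hle : ∀ η, m η ≤ 1 := by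
      intro η
      have h3 : m η ^ 2 ≤ ∑ η : IrrCharacter N, m η ^ 2 :=
        Finset.single_le_sum (f := fun η => m η ^ 2) (fun _ _ => Nat.zero_le _) (Finset.mem_univ η)
      rw [hsq] at h3
      by_contra hcon
      have h4 : 2 ^ 2 ≤ m η ^ 2 := Nat.pow_le_pow_left (by omega) 2
      omega
    have hsum : ∑ η : IrrCharacter N, m η = 2 := by
      rw [← hsq]
      refine Finset.sum_congr rfl fun η _ => ?_
      have h3 := hle η
      interval_cases m η <;> rfl
    have hcard : (Finset.univ.filter fun η : IrrCharacter N => m η = 1).card = 2 := by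
      rw [← hsum, Finset.card_filter]
      refine Finset.sum_congr rfl fun η _ => ?_
      have h3 := hle η
      interval_cases m η <;> simp
    obtain ⟨a, b, hab, hs⟩ := Finset.card_eq_two.1 hcard
    have ha : m a = 1 := by
      have : a ∈ Finset.univ.filter fun η : IrrCharacter N => m η = 1 := by rw [hs]; simp
      simpa using this
    have hb : m b = 1 := by
      have : b ∈ Finset.univ.filter fun η : IrrCharacter N => m η = 1 := by rw [hs]; simp
      simpa using this
    have ha0 : classInner (fun n : N => χ n) (a : N → ℂ) ≠ 0 := by rw [hcoef, ha]; simp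
    have hb0 : classInner (fun n : N => χ n) (b : N → ℂ) ≠ 0 := by rw [hcoef, hb]; simp
    obtain ⟨x, hx⟩ := exists_conj_of_constituents N hχ a.2 b.2 ha0 hb0
    have hbf : (b : N → ℂ) 1 = (a : N → ℂ) 1 := by
      rw [hx]
      simp
    have h3 : (fun n : N => χ n) = (a : N → ℂ) + (b : N → ℂ) := by
      rw [hm]
      rw [← Finset.sum_subset (Finset.subset_univ ({a, b} : Finset (IrrCharacter N)))]
      · rw [Finset.sum_pair hab, ha, hb, one_smul, one_smul]
      · intro η _ hη
        have h4 : m η ≠ 1 := by
          intro h5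
          apply hη
          rw [← hs]
          simpa using h5
        have h5 : m η = 0 := by
          have := hle η
          omega
        rw [h5, zero_smul]
    have h4 := congrFun h3 1
    have h5 := congrFun h3 ⟨z, hzN⟩
    simp only [OneMemClass.coe_one, Pi.add_apply, hbf] at h4 h5
    by_cases h6 : (a : N → ℂ) ⟨z, hzN⟩ = (a : N → ℂ) 1
    · refine ⟨b, b.2, fun h7 => hne ?_, ?_⟩
      · rw [h5, h4, h6, h7, hbf]
      · rw [h4, hbf]
        ring
    · exact ⟨a, a.2, h6, by rw [h4]; ring⟩

end Cfsg.Agent.H611.S8.Half
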