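import Cfsg.Agent.H611.S8.Inst
import Cfsg.Agent.H611.S8.Half

/-!
# The triple cover of `Fi24'` has an irreducible character of degree 783 which is not trivial on the centre
(helper611, for S4908)
-/

set_option autoImplicit false
set_option maxRecDepth 10000

open Cfsg Cfsg.Agent.Characters.Core

namespace Cfsg.Agent.H611.S8.Deg

open Cfsg.Agent.R08.TVar Cfsg.Agent.R08.TThree
open Cfsg.Agent.H52.ThreeFi24 Cfsg.Agent.H611.S8 Cfsg.Agent.H611.S8.Inst
open Cfsg.Agent.H611.S8.Half
open scoped commutatorElement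

theorem z0_comm : z0 ∈ commutator P3 := by
  have h1 : z0 = ⁅(y .k)⁻¹, g0⁆ := by
    rw [commutatorElement_def, inv_inv]
    unfold z0
    group
  rw [h1, commutator_def]
  exact Subgroup.commutator_mem_commutator (Subgroup.mem_top _) (Subgroup.mem_top _)

theorem ker_le : q3.ker ≤ commutator P3 := by
  intro z hz
  rcases cv.z_cases hz with h | h | h
  · rw [h]
    exact one_mem _
  · rw [h]
    exact z0_comm
  · rw [h]
    exact inv_mem z0_comm

theorem index_two : (commutator P3).index = 2 := by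
  have h1 : (commutator P3).map q3 = commutator Cfsg.Spor.Fi24 := comm_map
  have h2 : (commutator P3) = (commutator Cfsg.Spor.Fi24).comap q3 := by
    rw [← h1, Subgroup.comap_map_eq_self ker_le]
  rw [h2, Subgroup.index_comap_of_surjective _ q3_surj]
  exact Cfsg.Agent.R08.FiTwentyFour.index_commutator

/-- **the character of degree 783** -/
theorem exists_783 : ∃ ψ : L3 → ℂ, IsIrrCharacter L3 ψ ∧ (∃ v ∈ π3.ker, ψ v ≠ ψ 1) ∧ ψ 1 = 783 := by
  obtain ⟨χ, h1, g, hg⟩ := cv.exists_chi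
  have hne : (χ : P3 → ℂ) z0 ≠ (χ : P3 → ℂ) 1 := fun h => hg (apply_mul χ.2 h g)
  obtain ⟨ψ, h2, h3, h4⟩ := exists_half (commutator P3) index_two χ.2 (z := z0) z0_comm
    (fun n hn => central z0_mem hn) (y .k) z0_inv (cv.z_cube z0_mem) hne
  refine ⟨ψ, h2, ⟨⟨z0, z0_comm⟩, ?_, h3⟩, ?_⟩
  · rw [MonoidHom.mem_ker]
    refine Subtype.ext ?_
    rw [π3_coe]
    exact MonoidHom.mem_ker.1 z0_mem
  · have h5 : (χ : P3 → ℂ) 1 = 1566 := by
      rw [Cfsg.Agent.Blocks.Knorr.charDegree_eq χ.2, h1]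
      norm_num
    rw [h5] at h4
    have h6 : (2 : ℂ) * ψ 1 = 2 * 783 := by rw [← h4]; norm_num
    exact mul_left_cancel₀ two_ne_zero h6

end Cfsg.Agent.H611.S8.Deg
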