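import Cfsg.Agent.H611.S8.RankD
import Cfsg.Agent.H611.S8.Chk
import Cfsg.Agent.H52.ThreeFi24
import Cfsg.Agent.H532.PNormTwo.Fi24

/-!
# The triple cover of `Fi24` acting on the 920808 lifts of the transpositions (helper611, for S4908)
-/

set_option autoImplicit false
set_option linter.constructorNameAsVariable false
set_option maxRecDepth 100000

namespace Cfsg.Agent.H611.S8.Inst

open Cfsg.Spor Cfsg.Agent.R08.TVar Cfsg.Agent.R08.TThree Cfsg.Agent.R08.TIso
open Cfsg.Agent.Lib.PermNet Cfsg.Agent.Fischer.Fi24RepLib Cfsg.Agent.Fischer.TriTwo Cfsg.Agent.Fischer.TriDef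
open Cfsg.Agent.Fischer.Fi24Rep (gen word)
open Cfsg.Agent.Fischer.TriUp (isRel0_rho IsRel0 map_rep hN)
open Cfsg.Agent.H52.ThreeFi24Chk Cfsg.Agent.H52.ThreeFi24 Cfsg.Agent.H611.S8
open Cfsg.Agent.R08 Cfsg.Agent.R08.FiTwentyFour
open Cfsg.Agent.KFacts.FiTF.Pts (IsPt)
open Cfsg.Agent.H30.FiE (Com)
open Cfsg.Agent.H532.PNormTwo.Fi24 (exists_e card_eq com_iff' ncard_lam)

local notation "L" => Cfsg.Agent.R08.FiTwentyFour.L

/-- a word of the triple cover -/
noncomputable def yw (w : List Fi24.Gen) : P3 := (w.map y).prod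

theorem yw_append (a b : List Fi24.Gen) : yw (a ++ b) = yw a * yw b := by
  unfold yw
  rw [List.map_append, List.prod_append]

theorem yw_cons (s : Fi24.Gen) (a : List Fi24.Gen) : yw (s :: a) = y s * yw a := by
  unfold yw
  rw [List.map_cons, List.prod_cons]

theorem yw_nil : yw [] = 1 := rfl

theorem q3_yw (w : List Fi24.Gen) : q3 (yw w) = word w := by
  induction w with
  | nil => rw [yw_nil, map_one, Cfsg.Agent.Fischer.Fi24Spider.word_nil]
  | cons s w ih => rw [yw_cons, map_mul, ih, q3_of, Cfsg.Agent.Fischer.Fi24Spider.word_cons]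

theorem yw_rev (w : List Fi24.Gen) : yw w * yw w.reverse = 1 := by
  induction w with
  | nil => rw [List.reverse_nil, yw_nil, mul_one]
  | cons s w ih =>
    rw [List.reverse_cons, yw_append, yw_cons, yw_cons, yw_nil, mul_one]
    calc y s * yw w * (yw w.reverse * y s) = y s * (yw w * yw w.reverse) * y s := by group
      _ = y s * y s := by rw [ih, mul_one]
      _ = 1 := rel3_P.sq s

theorem cm {s t : Fi24.Gen} (h : coxLabel Fi24.edges s t = 2) : Commute (y s) (y t) := by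
  have h3 := rel3_P.cox s t
  rw [h] at h3
  have h4 : (y s * y t) * (y s * y t) = 1 := by rw [← pow_two]; exact h3
  have h5 := mul_eq_one_iff_eq_inv.1 h4
  rw [mul_inv_rev, rel3_P.inv_y, rel3_P.inv_y] at h5
  exact h5

theorem cm_l (w : List Fi24.Gen) (h : ∀ s ∈ w, coxLabel Fi24.edges .l s = 2) : Commute (y .l) (yw w) := by
  induction w with
  | nil => rw [yw_nil]; exact Commute.one_right _
  | cons s w ih =>
    rw [yw_cons]
    exact (cm (h s List.mem_cons_self)).mul_right (ih fun t ht => h t (List.mem_cons_of_mem _ ht))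

theorem tw_l : Commute (y .l) (yw tw) := cm_l tw (by decide)

theorem yw_sq : yw tw * yw tw = 1 := by
  have h1 : yw tw = yw tA * y .j * yw tA.reverse := by
    unfold tw
    rw [yw_append, yw_cons, mul_assoc]
  have h2 : yw tA.reverse = (yw tA)⁻¹ := (inv_eq_of_mul_eq_one_right (yw_rev tA)).symm
  rw [h1, h2]
  calc yw tA * y .j * (yw tA)⁻¹ * (yw tA * y .j * (yw tA)⁻¹) = yw tA * (y .j * y .j) * (yw tA)⁻¹ := by group
    _ = 1 := by rw [rel3_P.sq]; group

/-- `tw` does not commute with `k` in the triple cover -/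
theorem tw_k : ¬ Commute (yw tw) (y .k) := by
  intro h
  have h1 : yw (tw ++ .k :: (tw ++ [.k])) = 1 := by
    rw [yw_append, yw_cons, yw_append, yw_cons, yw_nil, mul_one]
    calc yw tw * (y .k * (yw tw * y .k)) = yw tw * ((y .k * yw tw) * y .k) := by group
      _ = yw tw * ((yw tw * y .k) * y .k) := by rw [h.eq]
      _ = (yw tw * yw tw) * (y .k * y .k) := by group
      _ = 1 := by rw [yw_sq, rel3_P.sq, mul_one]
  have h2 := tk_ne
  have h3 : ((tw ++ Fi24.Gen.k :: (tw ++ [Fi24.Gen.k])).map T.rho).prod = 1 := by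
    have h4 := congrArg (toW3 rel3_rho) h1
    rw [map_one] at h4
    unfold yw at h4
    rw [map_list_prod, List.map_map] at h4
    have : (toW3 rel3_rho) ∘ (fun s => (PresentedGroup.of s : P3)) = T.rho := by
      funext s; exact toW3_of rel3_rho s
    rw [this] at h4
    exact h4
  rw [im, ptWord_eq (okT.wok _ _), (okT.wperm_nw _).1, h3] at h2
  exact absurd h2 (by decide)

theorem k_fix : Cfsg.Agent.Lib.PermNetPt.chkPt (Cfsg.Agent.Fischer.Fi24RepDef.nw tw false) 307872 307872 = true := by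
  decide +kernel

/-- in `Fi24` it does -/
theorem tw_k' : Commute (word tw) (gen .k) :=
  ((Cfsg.Agent.KFacts.FiTF.FixMask.isPt_gen .k).comm_iff _).2 (Cfsg.Agent.KFacts.FiTF.Pts.rho_of_chkPt k_fix)

theorem hlk : ¬ Commute (gen .l) (gen .k) := by
  intro h
  have h1 : Cfsg.Agent.Fischer.Fi24Rep.rho (gen .l) 307872 = 307872 :=
    ((Cfsg.Agent.KFacts.FiTF.FixMask.isPt_gen .k).comm_iff _).1 h
  have h2 : Cfsg.Agent.Lib.PermNetPt.chkPt (Cfsg.Agent.Fischer.Fi24RepDef.nw [.l] false) 307872 307840 = true := by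
    decide +kernel
  have h3 := Cfsg.Agent.KFacts.FiTF.Pts.rho_of_chkPt h2
  rw [Cfsg.Agent.LThreeFi24.Base24.word_one'] at h3
  rw [h1] at h3
  exact absurd h3 (by norm_num)

/-- the even element -/
noncomputable def g0 : P3 := yw tw * y .j

/-- the central element -/
noncomputable def z0 : P3 := (y .k)⁻¹ * (g0 * y .k * g0⁻¹)

theorem g0_k : g0 * y .k * g0⁻¹ = yw tw * y .k * (yw tw)⁻¹ := by
  unfold g0
  calc yw tw * y .j * y .k * (yw tw * y .j)⁻¹ = yw tw * (y .j * y .k) * (y .j)⁻¹ * (yw tw)⁻¹ := by group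
    _ = yw tw * (y .k * y .j) * (y .j)⁻¹ * (yw tw)⁻¹ := by rw [(cm (s := .j) (t := .k) (by decide)).eq]
    _ = _ := by group

theorem z0_mem : z0 ∈ q3.ker := by
  rw [MonoidHom.mem_ker]
  unfold z0
  rw [g0_k, map_mul, map_inv, map_mul, map_mul, map_inv, q3_yw, q3_of, tw_k'.eq]
  group

theorem z0_ne : z0 ≠ 1 := by
  intro h
  unfold z0 at h
  rw [g0_k, inv_mul_eq_one] at h
  apply tw_k
  show yw tw * y .k = y .k * yw tw
  conv_rhs => rw [h]
  group

theorem comm_map : (commutator P3).map q3 = commutator Fi24 := by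
  rw [commutator_def P3, Subgroup.map_commutator, Subgroup.map_top_of_surjective q3 q3_surj, ← commutator_def Fi24]

theorem ker_comm {a b : P3} (ha : a ∈ q3.ker) (hb : b ∈ q3.ker) : a * b = b * a := by
  have : Fact (Nat.Prime 3) := ⟨Nat.prime_three⟩
  have : IsCyclic q3.ker := isCyclic_of_prime_card card_ker
  have h1 := (IsCyclic.commGroup (α := q3.ker)).mul_comm ⟨a, ha⟩ ⟨b, hb⟩
  exact congrArg Subtype.val h1

theorem cen (g : P3) (hg : q3 g ∈ commutator Fi24) (z : P3) (hz : z ∈ q3.ker) : g * z = z * g := by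
  rw [← comm_map] at hg
  obtain ⟨c, hc, he⟩ := hg
  have h1 : c⁻¹ * g ∈ q3.ker := by rw [MonoidHom.mem_ker, map_mul, map_inv, he, inv_mul_cancel]
  have h2 := ker_comm h1 hz
  have h3 := central hz hc
  calc g * z = c * (c⁻¹ * g * z) := by group
    _ = c * z * (c⁻¹ * g) := by rw [h2]; group
    _ = z * c * (c⁻¹ * g) := by rw [h3]
    _ = z * g := by group

theorem z0_inv : y .k * z0 * (y .k)⁻¹ = z0⁻¹ := by
  have h1 : (y .k * z0) * (y .k * z0) = 1 := by
    have : y .k * z0 = g0 * y .k * g0⁻¹ := by unfold z0; group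
    rw [this]
    calc g0 * y .k * g0⁻¹ * (g0 * y .k * g0⁻¹) = g0 * (y .k * y .k) * g0⁻¹ := by group
      _ = 1 := by rw [rel3_P.sq]; group
  have h2 : (y .k : P3)⁻¹ = y .k := rel3_P.inv_y .k
  rw [eq_inv_iff_mul_eq_one, h2]
  calc y .k * z0 * y .k * z0 = y .k * z0 * (y .k * z0) := by group
    _ = 1 := h1

theorem inv_k (z : P3) (hz : z ∈ q3.ker) : y .k * z * (y .k)⁻¹ = z⁻¹ := by
  have : Fact (Nat.Prime 3) := ⟨Nat.prime_three⟩
  have h0 : (⟨z0, z0_mem⟩ : q3.ker) ≠ 1 := fun h => z0_ne (congrArg Subtype.val h)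
  have h1 := mem_zpowers_of_prime_card card_ker h0 (g' := ⟨z, hz⟩)
  obtain ⟨n, hn⟩ := Subgroup.mem_zpowers_iff.1 h1
  have h2 : z = z0 ^ n := (congrArg Subtype.val hn).symm
  rw [h2, ← conj_zpow, z0_inv, inv_zpow]

theorem inv (g : P3) (hg : q3 g ∈ L) (z : P3) (hz : z ∈ q3.ker) : g * z * g⁻¹ = z⁻¹ := by
  have h1 : q3 (g * y .k) ∈ commutator Fi24 := by
    rw [map_mul, q3_of]
    exact even hg (gen_mem_L .k)
  have h2 := cen _ h1 z hz
  have h3 := inv_k z hz
  have h4 : g * (y .k * z * (y .k)⁻¹) * g⁻¹ = z := by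
    calc g * (y .k * z * (y .k)⁻¹) * g⁻¹ = g * y .k * z * (g * y .k)⁻¹ := by group
      _ = z := by rw [h2]; group
  rw [h3] at h4
  have h5 : (g * z⁻¹ * g⁻¹)⁻¹ = z⁻¹ := congrArg _ h4
  rw [← h5]
  group

theorem g0_even : q3 g0 ∈ commutator Fi24 := by
  have h1 : q3 g0 = word (tw ++ [.j]) := by
    unfold g0
    rw [map_mul, q3_yw, q3_of, Cfsg.Agent.Fischer.Fi24Spider.word_append, Cfsg.Agent.H532.PNormTwo.Fi24.word_one]
  rw [h1]
  have h1 : ∀ l : List Fi24.Gen, Cfsg.Agent.Fischer.Fi24Final.sgn (word l) = (-1) ^ l.length := by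
    intro l
    induction l with
    | nil => rw [Cfsg.Agent.Fischer.Fi24Spider.word_nil, map_one]; rfl
    | cons x l ih =>
      rw [Cfsg.Agent.Fischer.Fi24Spider.word_cons, map_mul, ih, Cfsg.Agent.Fischer.Fi24Final.sgn_gen, List.length_cons,
        pow_succ']
  rw [← Cfsg.Agent.Fischer.Fi24Final.ker_sgn, MonoidHom.mem_ker, h1]
  rfl

theorem cardlam : {e | e ∈ L ∧ (q3 (y .c) ≠ e ∧ Commute (q3 (y .c)) e) ∧ (q3 (y .l) ≠ e ∧ Commute (q3 (y .l)) e)}.ncard =
    3510 := by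
  have h1 : q3 (y .c) = gen .c := q3_of .c
  have h2 : q3 (y .l) = gen .l := q3_of .l
  rw [h1, h2]
  obtain ⟨e, he⟩ := exists_e
  have p0 : IsPt (gen .l) 0 := Cfsg.Agent.KFacts.FiTF.FixMask.isPt_gen .l
  have p2 : IsPt (gen .c) 2 := Cfsg.Agent.KFacts.FiTF.FixMask.isPt_gen .c
  rw [← ncard_lam]
  rw [← card_eq e (fun z => (gen .l ≠ (z : Fi24) ∧ Commute (gen .l) (z : Fi24)) ∧
    ((z : Fi24) ≠ gen .c ∧ Commute (z : Fi24) (gen .c))) {p : ℕ | Com 0 p ∧ Com p 2} (fun z => by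
      rw [Set.mem_ofPred_eq]
      exact and_congr (com_iff' p0 (he z)) (com_iff' (he z) p2)) fun n hn => hn.1.2.1]
  rw [← Nat.card_coe_set_eq]
  exact Nat.card_congr ⟨fun e => ⟨⟨e.1, e.2.1⟩, e.2.2.2, e.2.2.1.1.symm, e.2.2.1.2.symm⟩,
    fun z => ⟨z.1.1, z.1.2, ⟨z.2.2.1.symm, z.2.2.2.symm⟩, z.2.1⟩, fun _ => rfl, fun _ => rfl⟩

/-- **the triple cover of `Fi24`** -/
theorem cv : Cv q3 (commutator Fi24) L 31671 275264 3510 (y .l) (y .c) (y .k) g0 z0 where
  surj := q3_surj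
  card3 := card_ker
  conj := fun d hd g => FiTwentyFour.conj hd g
  cen := cen
  inv := inv
  tr1 := by
    intro d hd e he
    let _ := Cfsg.Agent.H30.GraphFi24.act
    have h3 := Cfsg.Agent.H30.GraphFi24.r3
    have := h3.trans
    obtain ⟨g, hg⟩ := MulAction.exists_smul_eq Fi24' (⟨d, hd⟩ : (L : Set Fi24)) ⟨e, he⟩
    exact ⟨g, g.2, congrArg Subtype.val hg⟩
  one := by
    intro d hd d' hd' e he e' he' h1 h2 h3 h4
    obtain ⟨g, hg, h5, h6⟩ := trans2 hd hd' he he' h1 h2 h3 h4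
    exact ⟨g, hg, h5, h6⟩
  two := by
    intro d hd d' hd' e he e' he' h1 h2
    exact Cfsg.Agent.H30.GraphFi24.noncomm_trans hd hd' he he' h1 h2
  cardk := by
    intro d hd
    rw [← ncard_commuting hd]
    congr 1
    ext e
    exact ⟨fun h => ⟨h.1, h.2.1.symm, h.2.2.symm⟩, fun h => ⟨h.1, h.2.1.symm, h.2.2.symm⟩⟩
  cardn := by rw [ncard_L]
  cardlam := cardlam
  ht0 := by rw [q3_of]; exact gen_mem_L .l
  hs0 := by rw [q3_of]; exact gen_mem_L .c
  hr0 := by rw [q3_of]; exact gen_mem_L .k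
  ts := by
    rw [q3_of, q3_of]
    intro h
    have p0 : IsPt (gen .l) 0 := Cfsg.Agent.KFacts.FiTF.FixMask.isPt_gen .l
    have p2 : IsPt (gen .c) 2 := Cfsg.Agent.KFacts.FiTF.FixMask.isPt_gen .c
    rw [h] at p0
    exact absurd (p0.uniq p2) (by norm_num)
  tsc := cm (by decide)
  tr := by rw [q3_of, q3_of]; exact hlk
  g0E := g0_even
  g0t := by
    have h1 : Commute (y .l) g0 := tw_l.mul_right (cm (by decide))
    rw [← h1.eq]
    group
  g0r := by unfold z0; group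
  hz0 := z0_mem
  z0ne := z0_ne

end Cfsg.Agent.H611.S8.Inst
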