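import Cfsg.Agent.H894.PQ.Hecke

/-!
# A triple cover acting on the lifts of a class of 3-transpositions (helper611, for S4908, row `3.Fi24'`)

`Cv q E L k l lam …` : `q : P → K` onto with kernel of order 3, centralised by the preimage of `E` and inverted by the
preimage of the class `L`; `K` has rank 3 on `L`. The action of `P` on the preimage of `L` has rank 5.
-/

set_option autoImplicit false
set_option linter.unusedSectionVars false

namespace Cfsg.Agent.H611.S8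

open Subgroup MulAction

/-- the abstract situation -/
structure Cv {P K : Type} [Group P] [Group K] (q : P →* K) (E : Subgroup K) (L : Set K) (k l lam : ℕ)
    (t0 s0 r0 g0 z0 : P) : Prop where
  surj : Function.Surjective q
  card3 : Nat.card q.ker = 3
  conj : ∀ d ∈ L, ∀ g, g * d * g⁻¹ ∈ L
  cen : ∀ g, q g ∈ E → ∀ z ∈ q.ker, g * z = z * g
  inv : ∀ g, q g ∈ L → ∀ z ∈ q.ker, g * z * g⁻¹ = z⁻¹
  tr1 : ∀ d ∈ L, ∀ e ∈ L, ∃ g ∈ E, g * d * g⁻¹ = e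
  one : ∀ d ∈ L, ∀ d' ∈ L, ∀ e ∈ L, ∀ e' ∈ L, d ≠ d' → Commute d d' → e ≠ e' → Commute e e' →
    ∃ g ∈ E, g * d * g⁻¹ = e ∧ g * d' * g⁻¹ = e'
  two : ∀ d ∈ L, ∀ d' ∈ L, ∀ e ∈ L, ∀ e' ∈ L, ¬ Commute d d' → ¬ Commute e e' →
    ∃ g ∈ E, g * d * g⁻¹ = e ∧ g * d' * g⁻¹ = e'
  cardk : ∀ d ∈ L, {e | e ∈ L ∧ d ≠ e ∧ Commute d e}.ncard = k
  cardn : L.ncard = 1 + k + l
  cardlam : {e | e ∈ L ∧ (q s0 ≠ e ∧ Commute (q s0) e) ∧ (q t0 ≠ e ∧ Commute (q t0) e)}.ncard = lam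
  ht0 : q t0 ∈ L
  hs0 : q s0 ∈ L
  hr0 : q r0 ∈ L
  ts : q t0 ≠ q s0
  tsc : Commute t0 s0
  tr : ¬ Commute (q t0) (q r0)
  g0E : q g0 ∈ E
  g0t : g0 * t0 * g0⁻¹ = t0
  g0r : g0 * r0 * g0⁻¹ = r0 * z0
  hz0 : z0 ∈ q.ker
  z0ne : z0 ≠ 1

namespace Cv

variable {P K : Type} [Group P] [Group K] {q : P →* K} {E : Subgroup K} {L : Set K} {k l lam : ℕ}
  {t0 s0 r0 g0 z0 : P} (h : Cv q E L k l lam t0 s0 r0 g0 z0)

include h

/-! ### The kernel -/

theorem z_cube {z : P} (hz : z ∈ q.ker) : z * z = z⁻¹ := by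
  have h1 : (⟨z, hz⟩ : q.ker) ^ 3 = 1 := by rw [← h.card3, pow_card_eq_one']
  have h2 : z ^ 3 = 1 := congrArg Subtype.val h1
  rw [eq_inv_iff_mul_eq_one, ← h2, pow_succ, pow_two]

theorem z_one {z : P} (hz : z ∈ q.ker) (h1 : z = z⁻¹) : z = 1 := by
  have h2 := h.z_cube hz
  rw [← h1] at h2
  exact mul_eq_left.1 h2

theorem z_cases {z : P} (hz : z ∈ q.ker) : z = 1 ∨ z = z0 ∨ z = z0⁻¹ := by
  have hc : Nat.card (zpowers z0) = 3 := by
    have h1 : orderOf z0 ∣ 3 := orderOf_dvd_of_pow_eq_one (by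
      have := h.z_cube h.hz0
      calc z0 ^ 3 = z0 * z0 * z0 := by rw [pow_succ, pow_two]
        _ = 1 := by rw [this, inv_mul_cancel])
    rw [Nat.card_zpowers]
    rcases (Nat.dvd_prime Nat.prime_three).1 h1 with h2 | h2
    · exact absurd (orderOf_eq_one_iff.1 h2) h.z0ne
    · exact h2
  have hfin : Finite q.ker := Nat.finite_of_card_ne_zero (by rw [h.card3]; norm_num)
  have hle : zpowers z0 ≤ q.ker := by rw [zpowers_le]; exact h.hz0
  have heq : zpowers z0 = q.ker := Subgroup.eq_of_le_of_card_ge hle (by rw [hc, h.card3])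
  rw [← heq] at hz
  obtain ⟨n, rfl⟩ := hz
  have h3 : z0 ^ (3 : ℤ) = 1 := by
    have := h.z_cube h.hz0
    calc z0 ^ (3 : ℤ) = z0 * z0 * z0 := by
          rw [show (3 : ℤ) = 2 + 1 by norm_num, zpow_add, zpow_two, zpow_one]
      _ = 1 := by rw [this, inv_mul_cancel]
  have h4 : z0 ^ n = z0 ^ (n % 3) := by
    conv_lhs => rw [← Int.mul_ediv_add_emod n 3, zpow_add, zpow_mul, h3, one_zpow, one_mul]
  show z0 ^ n = 1 ∨ z0 ^ n = z0 ∨ z0 ^ n = z0⁻¹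
  rw [h4]
  have h5 : n % 3 = 0 ∨ n % 3 = 1 ∨ n % 3 = 2 := by omega
  rcases h5 with h5 | h5 | h5
  · left; rw [h5, zpow_zero]
  · right; left; rw [h5, zpow_one]
  · right; right
    rw [h5, ← h.z_cube h.hz0, zpow_two]

/-! ### Lifts -/

theorem uniq {x y y' : P} (hx : q x ∈ L) (hy : q y = q y') (h1 : Commute x y) (h2 : Commute x y') : y = y' := by
  have hz : y⁻¹ * y' ∈ q.ker := by rw [MonoidHom.mem_ker, map_mul, map_inv, hy, inv_mul_cancel]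
  have h3 : Commute x (y⁻¹ * y') := h1.inv_right.mul_right h2
  have h4 := h.inv x hx _ hz
  have h5 : x * (y⁻¹ * y') * x⁻¹ = y⁻¹ * y' := by rw [h3.eq, mul_inv_cancel_right]
  rw [h5] at h4
  have h6 := h.z_one hz h4
  rw [inv_mul_eq_one] at h6
  exact h6

theorem eq_of_comm {x y : P} (hx : q x ∈ L) (hy : q x = q y) (h1 : Commute x y) : x = y :=
  h.uniq hx hy (Commute.refl x) h1

theorem lift {x : P} (hx : q x ∈ L) {e : K} (he : e ∈ L) (hc : Commute (q x) e) : ∃ y, q y = e ∧ Commute x y := by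
  obtain ⟨y, rfl⟩ := h.surj e
  set w := x * y * x⁻¹ * y⁻¹ with hw
  have hwk : w ∈ q.ker := by
    rw [MonoidHom.mem_ker, hw]
    simp only [map_mul, map_inv]
    rw [hc.eq]
    group
  have h1 : x * y * x⁻¹ = w * y := by rw [hw]; group
  have h2 := h.inv x hx w hwk
  have h3 : y * w = w⁻¹ * y := by
    have := h.inv y he w hwk
    rw [← this]
    group
  have h4 := h.z_cube hwk
  have h5 : y * w⁻¹ = w * y := by
    have := h.inv y he w⁻¹ (inv_mem hwk)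
    rw [inv_inv] at this
    conv_rhs => rw [← this]
    group
  refine ⟨y * w, by rw [map_mul, MonoidHom.mem_ker.1 hwk, mul_one], ?_⟩
  have h6 : x * (y * w) * x⁻¹ = y * w := by
    calc x * (y * w) * x⁻¹ = (x * y * x⁻¹) * (x * w * x⁻¹) := by group
      _ = w * y * w⁻¹ := by rw [h1, h2]
      _ = w * (y * w⁻¹) := mul_assoc _ _ _
      _ = w * (w * y) := by rw [h5]
      _ = (w * w) * y := (mul_assoc _ _ _).symm
      _ = y * w := by rw [h4, h3]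
  exact mul_inv_eq_iff_eq_mul.1 h6

theorem adjust {g x x' : P} (hx : q x' ∈ L) (hg : q g * q x * (q g)⁻¹ = q x') :
    ∃ g', q g' = q g ∧ g' * x * g'⁻¹ = x' := by
  set z := x'⁻¹ * (g * x * g⁻¹) with hz
  have hzk : z ∈ q.ker := by
    rw [MonoidHom.mem_ker, hz]
    simp only [map_mul, map_inv]
    rw [hg, inv_mul_cancel]
  have h1 : g * x * g⁻¹ = x' * z := by rw [hz]; group
  have h2 := h.inv x' hx z⁻¹ (inv_mem hzk)
  rw [inv_inv] at h2
  refine ⟨z⁻¹ * g, by rw [map_mul, map_inv, MonoidHom.mem_ker.1 hzk, inv_one, one_mul], ?_⟩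
  calc z⁻¹ * g * x * (z⁻¹ * g)⁻¹ = z⁻¹ * (g * x * g⁻¹) * z := by group
    _ = z⁻¹ * x' * (z * z) := by rw [h1]; group
    _ = z⁻¹ * (x' * z⁻¹ * x'⁻¹) * x' := by rw [h.z_cube hzk]; group
    _ = x' := by rw [h2]; group

theorem comm_of {x y y' : P} (hx : q x ∈ L) (h1 : Commute x y) (h2 : Commute x y') (h3 : Commute (q y) (q y')) :
    Commute y y' := by
  have hz : y * y' * y⁻¹ * y'⁻¹ ∈ q.ker := by
    rw [MonoidHom.mem_ker]
    simp only [map_mul, map_inv]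
    rw [h3.eq]
    group
  have h4 : Commute x (y * y' * y⁻¹ * y'⁻¹) := ((h1.mul_right h2).mul_right h1.inv_right).mul_right h2.inv_right
  have h5 := h.inv x hx _ hz
  rw [h4.eq, mul_inv_cancel_right] at h5
  have h6 := h.z_one hz h5
  show y * y' = y' * y
  calc y * y' = (y * y' * y⁻¹ * y'⁻¹) * (y' * y) := by group
    _ = y' * y := by rw [h6, one_mul]

theorem pair2 {x y x' y' : P} (hx : q x ∈ L) (hy : q y ∈ L) (hx' : q x' ∈ L) (hy' : q y' ∈ L) (h1 : Commute x y)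
    (h2 : q x ≠ q y) (h1' : Commute x' y') (h2' : q x' ≠ q y') :
    ∃ g, q g ∈ E ∧ g * x * g⁻¹ = x' ∧ g * y * g⁻¹ = y' := by
  obtain ⟨g, hg, hgx, hgy⟩ := h.one _ hx _ hy _ hx' _ hy' h2 (h1.map q) h2' (h1'.map q)
  obtain ⟨g, rfl⟩ := h.surj g
  obtain ⟨g', hg', hgx'⟩ := h.adjust hx' hgx
  refine ⟨g', by rw [hg']; exact hg, hgx', ?_⟩
  have h3 : q (g' * y * g'⁻¹) = q y' := by
    simp only [map_mul, map_inv]
    rw [hg', hgy]
  refine h.uniq hx' h3 ?_ h1'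
  rw [← hgx']
  exact Commute.conj_iff _ |>.2 h1

theorem pair4 {x y : P} (hx : q x ∈ L) (hy : q y ∈ L) (hxy : ¬ Commute (q x) (q y)) :
    ∃ g, q g ∈ E ∧ g * t0 * g⁻¹ = x ∧ g * r0 * g⁻¹ = y := by
  obtain ⟨g, hg, hgx, hgy⟩ := h.two _ h.ht0 _ h.hr0 _ hx _ hy h.tr hxy
  obtain ⟨g, rfl⟩ := h.surj g
  obtain ⟨g', hg', hgx'⟩ := h.adjust hx hgx
  have hgE : q g' ∈ E := by rw [hg']; exact hg
  set z := y⁻¹ * (g' * r0 * g'⁻¹) with hz
  have hzk : z ∈ q.ker := by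
    rw [MonoidHom.mem_ker, hz]
    simp only [map_mul, map_inv]
    rw [hg', hgy, inv_mul_cancel]
  have h1 : g' * r0 * g'⁻¹ = y * z := by rw [hz]; group
  have hgz : ∀ u ∈ q.ker, g' * u * g'⁻¹ = u := by
    intro u hu
    rw [h.cen g' hgE u hu, mul_inv_cancel_right]
  have h0z : ∀ u ∈ q.ker, g0 * u * g0⁻¹ = u := by
    intro u hu
    rw [h.cen g0 h.g0E u hu, mul_inv_cancel_right]
  rcases h.z_cases hzk with h2 | h2 | h2
  · exact ⟨g', hgE, hgx', by rw [h1, h2, mul_one]⟩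
  · refine ⟨g' * (g0 * g0), by rw [map_mul, map_mul]; exact mul_mem hgE (mul_mem h.g0E h.g0E), ?_, ?_⟩
    · calc g' * (g0 * g0) * t0 * (g' * (g0 * g0))⁻¹ = g' * (g0 * (g0 * t0 * g0⁻¹) * g0⁻¹) * g'⁻¹ := by group
        _ = x := by rw [h.g0t, h.g0t, hgx']
    · calc g' * (g0 * g0) * r0 * (g' * (g0 * g0))⁻¹ = g' * (g0 * (g0 * r0 * g0⁻¹) * g0⁻¹) * g'⁻¹ := by group
        _ = g' * (g0 * (r0 * z0) * g0⁻¹) * g'⁻¹ := by rw [h.g0r]
        _ = g' * ((g0 * r0 * g0⁻¹) * (g0 * z0 * g0⁻¹)) * g'⁻¹ := by group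
        _ = g' * (r0 * z0 * z0) * g'⁻¹ := by rw [h0z _ h.hz0, h.g0r]
        _ = (g' * r0 * g'⁻¹) * (g' * (z0 * z0) * g'⁻¹) := by group
        _ = y := by rw [h.z_cube h.hz0, hgz _ (inv_mem h.hz0), h1, h2, mul_inv_cancel_right]
  · refine ⟨g' * g0, by rw [map_mul]; exact mul_mem hgE h.g0E, ?_, ?_⟩
    · calc g' * g0 * t0 * (g' * g0)⁻¹ = g' * (g0 * t0 * g0⁻¹) * g'⁻¹ := by group
        _ = x := by rw [h.g0t, hgx']
    · calc g' * g0 * r0 * (g' * g0)⁻¹ = g' * (g0 * r0 * g0⁻¹) * g'⁻¹ := by group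
        _ = g' * (r0 * z0) * g'⁻¹ := by rw [h.g0r]
        _ = (g' * r0 * g'⁻¹) * (g' * z0 * g'⁻¹) := by group
        _ = y := by rw [hgz _ h.hz0, h1, h2, inv_mul_cancel_right]

end Cv

end Cfsg.Agent.H611.S8
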