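import Cfsg.Agent.H611.S8.Rank

/-!
# The five orbits and the intersection numbers (helper611, for S4908, row `3.Fi24'`)
-/

set_option autoImplicit false
set_option linter.unusedSectionVars false

namespace Cfsg.Agent.H611.S8

open Subgroup MulAction

variable {P K : Type} [Group P] [Group K]

open Classical in
/-- the class of `y` relative to `t0` -/
noncomputable def cls (q : P →* K) (t0 y : P) : Fin 5 :=
  if y = t0 then 0 else if q y = q t0 then 1 else if Commute t0 y then 2 else if Commute (q t0) (q y) then 3 else 4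

/-- adjacency -/
def Adj (q : P →* K) (x y : P) : Prop := q x ≠ q y ∧ Commute x y

/-- the representatives -/
def rp (t0 s0 r0 z0 : P) : Fin 5 → P := ![t0, z0 * t0 * z0⁻¹, s0, z0 * s0 * z0⁻¹, r0]

theorem Adj.symm {q : P →* K} {x y : P} (h : Adj q x y) : Adj q y x := ⟨h.1.symm, h.2.symm⟩

theorem adj_comm {q : P →* K} {x y : P} : Adj q x y ↔ Adj q y x := ⟨Adj.symm, Adj.symm⟩

theorem conj_inj {G : Type*} [Group G] {g x y : G} : g * x * g⁻¹ = g * y * g⁻¹ ↔ x = y :=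
  ⟨fun h => mul_left_cancel (mul_right_cancel h), fun h => by rw [h]⟩

theorem adj_conj {q : P →* K} (g : P) {x y : P} : Adj q (g * x * g⁻¹) (g * y * g⁻¹) ↔ Adj q x y := by
  unfold Adj
  refine and_congr ?_ (Commute.conj_iff g)
  simp only [map_mul, map_inv]
  rw [Ne, conj_inj]

theorem cls0 {q : P →* K} {t0 y : P} : cls q t0 y = 0 ↔ y = t0 := by
  unfold cls
  split_ifs with h1 h2 h3 h4 <;> simp [h1]

theorem cls1 {q : P →* K} {t0 y : P} : cls q t0 y = 1 ↔ y ≠ t0 ∧ q y = q t0 := by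
  unfold cls
  split_ifs with h1 h2 h3 h4 <;> simp [h1, *]

theorem cls2 {q : P →* K} {t0 y : P} : cls q t0 y = 2 ↔ q y ≠ q t0 ∧ Commute t0 y := by
  unfold cls
  split_ifs with h1 h2 h3 h4 <;> simp [*]

theorem cls3 {q : P →* K} {t0 y : P} : cls q t0 y = 3 ↔ q y ≠ q t0 ∧ ¬ Commute t0 y ∧ Commute (q t0) (q y) := by
  unfold cls
  split_ifs with h1 h2 h3 h4 <;> simp [*]

theorem cls4 {q : P →* K} {t0 y : P} : cls q t0 y = 4 ↔ ¬ Commute (q t0) (q y) := by
  unfold cls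
  split_ifs with h1 h2 h3 h4
  · subst h1
    simp
  · rw [h2]
    simp
  · have := h3.map q
    simp [this]
  · simp [h4]
  · simp [h4]

theorem cls_conj {q : P →* K} {t0 : P} {g : P} (hg : g * t0 * g⁻¹ = t0) (y : P) :
    cls q t0 (g * y * g⁻¹) = cls q t0 y := by
  have h1 : g * y * g⁻¹ = t0 ↔ y = t0 := by
    constructor
    · intro h
      rw [← hg] at h
      exact conj_inj.1 h
    · rintro rfl
      exact hg
  have h2 : q (g * y * g⁻¹) = q t0 ↔ q y = q t0 := by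
    have e : q t0 = q g * q t0 * (q g)⁻¹ := by rw [← map_inv, ← map_mul, ← map_mul, hg]
    simp only [map_mul, map_inv]
    conv_lhs => rw [e]
    exact conj_inj
  have h3 : Commute t0 (g * y * g⁻¹) ↔ Commute t0 y := by
    conv_lhs => rw [← hg]
    exact Commute.conj_iff g
  have h4 : Commute (q t0) (q (g * y * g⁻¹)) ↔ Commute (q t0) (q y) := by
    have e : q t0 = q g * q t0 * (q g)⁻¹ := by rw [← map_inv, ← map_mul, ← map_mul, hg]
    simp only [map_mul, map_inv]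
    conv_lhs => rw [e]
    exact Commute.conj_iff (q g)
  have key : ∀ i, cls q t0 y = i → cls q t0 (g * y * g⁻¹) = i := by
    intro i hi
    fin_cases i
    · exact cls0.2 (h1.2 (cls0.1 hi))
    · exact cls1.2 ⟨fun h => (cls1.1 hi).1 (h1.1 h), h2.2 (cls1.1 hi).2⟩
    · exact cls2.2 ⟨fun h => (cls2.1 hi).1 (h2.1 h), h3.2 (cls2.1 hi).2⟩
    · exact cls3.2 ⟨fun h => (cls3.1 hi).1 (h2.1 h), fun h => (cls3.1 hi).2.1 (h3.1 h), h4.2 (cls3.1 hi).2.2⟩
    · exact cls4.2 fun h => cls4.1 hi (h4.1 h)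
  exact key _ rfl

namespace Cv

variable {q : P →* K} {E : Subgroup K} {L : Set K} {k l lam : ℕ}
  {t0 s0 r0 g0 z0 : P} (h : Cv q E L k l lam t0 s0 r0 g0 z0)

include h

theorem conj_z {x : P} (hx : q x ∈ L) : z0 * x * z0⁻¹ = x * z0 := by
  have h1 := h.inv x hx z0⁻¹ (inv_mem h.hz0)
  rw [inv_inv] at h1
  calc z0 * x * z0⁻¹ = (x * z0⁻¹ * x⁻¹) * x * z0⁻¹ := by rw [h1]
    _ = x * (z0 * z0)⁻¹ := by group
    _ = x * z0 := by rw [h.z_cube h.hz0, inv_inv]

theorem q_z0 : q z0 = 1 := MonoidHom.mem_ker.1 h.hz0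

theorem q_conj_z (x : P) : q (z0 * x * z0⁻¹) = q x := by
  simp only [map_mul, map_inv]
  rw [h.q_z0]
  group

theorem not_comm_z {x y : P} (hx : q x ∈ L) (hy : q y ∈ L) (hxy : Commute x y) : ¬ Commute x (z0 * y * z0⁻¹) := by
  intro h1
  have h2 := h.uniq hx (h.q_conj_z y).symm hxy h1
  rw [h.conj_z hy] at h2
  exact h.z0ne (mul_eq_left.1 h2.symm)

theorem rp_mem (i : Fin 5) : q (rp t0 s0 r0 z0 i) ∈ L := by
  fin_cases i
  · exact h.ht0
  · show q (z0 * t0 * z0⁻¹) ∈ L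
    rw [h.q_conj_z]; exact h.ht0
  · exact h.hs0
  · show q (z0 * s0 * z0⁻¹) ∈ L
    rw [h.q_conj_z]; exact h.hs0
  · exact h.hr0

theorem cls_rp (i : Fin 5) : cls q t0 (rp t0 s0 r0 z0 i) = i := by
  fin_cases i
  · exact cls0.2 rfl
  · refine cls1.2 ⟨?_, h.q_conj_z t0⟩
    intro h1
    refine h.not_comm_z h.ht0 h.ht0 (Commute.refl t0) ?_
    rw [show z0 * t0 * z0⁻¹ = t0 from h1]
  · exact cls2.2 ⟨h.ts.symm, h.tsc⟩
  · refine cls3.2 ⟨?_, h.not_comm_z h.ht0 h.hs0 h.tsc, ?_⟩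
    · show q (z0 * s0 * z0⁻¹) ≠ q t0
      rw [h.q_conj_z]
      exact h.ts.symm
    · show Commute (q t0) (q (z0 * s0 * z0⁻¹))
      rw [h.q_conj_z]
      exact h.tsc.map q
  · exact cls4.2 h.tr

/-- the stabiliser of `t0` is transitive on the classes -/
theorem c_tr {y : P} (hy : q y ∈ L) : ∃ g, g * t0 * g⁻¹ = t0 ∧ g * rp t0 s0 r0 z0 (cls q t0 y) * g⁻¹ = y := by
  have hc : cls q t0 y = 0 ∨ cls q t0 y = 1 ∨ cls q t0 y = 2 ∨ cls q t0 y = 3 ∨ cls q t0 y = 4 := by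
    generalize cls q t0 y = c
    fin_cases c <;> simp
  rcases hc with hc | hc | hc | hc | hc
  · rw [hc]
    refine ⟨1, by group, ?_⟩
    rw [cls0.1 hc]
    show 1 * t0 * 1⁻¹ = t0
    group
  · rw [hc]
    obtain ⟨h1, h2⟩ := cls1.1 hc
    show ∃ g, g * t0 * g⁻¹ = t0 ∧ g * (z0 * t0 * z0⁻¹) * g⁻¹ = y
    rw [h.conj_z h.ht0]
    have hzk : t0⁻¹ * y ∈ q.ker := by rw [MonoidHom.mem_ker, map_mul, map_inv, h2, inv_mul_cancel]
    rcases h.z_cases hzk with h3 | h3 | h3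
    · exact absurd (inv_mul_eq_one.1 h3).symm h1
    · refine ⟨1, by group, ?_⟩
      rw [← h3]
      group
    · refine ⟨t0, by group, ?_⟩
      have h4 := h.inv t0 h.ht0 z0 h.hz0
      calc t0 * (t0 * z0) * t0⁻¹ = t0 * (t0 * z0 * t0⁻¹) := by group
        _ = y := by rw [h4, ← h3]; group
  · rw [hc]
    obtain ⟨h1, h2⟩ := cls2.1 hc
    obtain ⟨g, -, hg1, hg2⟩ := h.pair2 h.ht0 h.hs0 h.ht0 hy h.tsc h.ts h2 h1.symm
    exact ⟨g, hg1, hg2⟩
  · rw [hc]
    obtain ⟨h1, h2, h3⟩ := cls3.1 hc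
    obtain ⟨v, hv, htv⟩ := h.lift h.ht0 hy h3
    obtain ⟨g, hgE, hg1, hg2⟩ := h.pair2 h.ht0 h.hs0 h.ht0 (by rw [hv]; exact hy) h.tsc h.ts htv (by rw [hv]; exact h1.symm)
    show ∃ g, g * t0 * g⁻¹ = t0 ∧ g * (z0 * s0 * z0⁻¹) * g⁻¹ = y
    rw [h.conj_z h.hs0]
    have hzk : v⁻¹ * y ∈ q.ker := by rw [MonoidHom.mem_ker, map_mul, map_inv, hv, inv_mul_cancel]
    have h5 : g * (s0 * z0) * g⁻¹ = v * z0 := by
      calc g * (s0 * z0) * g⁻¹ = (g * s0 * g⁻¹) * (g * z0 * g⁻¹) := by group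
        _ = v * z0 := by rw [hg2, h.cen g hgE z0 h.hz0, mul_inv_cancel_right]
    rcases h.z_cases hzk with h4 | h4 | h4
    · exact absurd (by rw [← inv_mul_eq_one.1 h4]; exact htv) h2
    · refine ⟨g, hg1, ?_⟩
      rw [h5, ← h4]
      group
    · refine ⟨t0 * g, ?_, ?_⟩
      · calc t0 * g * t0 * (t0 * g)⁻¹ = t0 * (g * t0 * g⁻¹) * t0⁻¹ := by group
          _ = t0 := by rw [hg1]; group
      · have h6 := h.inv t0 h.ht0 z0 h.hz0
        calc t0 * g * (s0 * z0) * (t0 * g)⁻¹ = t0 * (g * (s0 * z0) * g⁻¹) * t0⁻¹ := by group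
          _ = (t0 * v * t0⁻¹) * (t0 * z0 * t0⁻¹) := by rw [h5]; group
          _ = v * z0⁻¹ := by rw [h6, htv.eq, mul_inv_cancel_right]
          _ = y := by rw [← h4]; group
  · rw [hc]
    obtain ⟨g, -, hg1, hg2⟩ := h.pair4 h.ht0 hy (cls4.1 hc)
    exact ⟨g, hg1, hg2⟩

/-! ### Counting -/

variable [Finite P]

theorem pre (S : Set K) : {y : P | q y ∈ S}.ncard = 3 * S.ncard := by
  classical
  have := Fintype.ofFinite P
  have hK : Finite K := Finite.of_surjective q h.surj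
  have := Fintype.ofFinite K
  set A : Finset P := Finset.univ.filter fun y : P => q y ∈ S with hA
  set B : Finset K := Finset.univ.filter fun e : K => e ∈ S with hB
  have h1 : ({y : P | q y ∈ S}).ncard = A.card := by
    rw [← Set.ncard_coe_finset]
    congr 1
    ext y
    simp [hA]
  have h2 : S.ncard = B.card := by
    rw [← Set.ncard_coe_finset]
    congr 1
    ext y
    simp [hB]
  have hm : ∀ y ∈ A, q y ∈ B := fun y hy => by
    rw [hB, Finset.mem_filter]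
    exact ⟨Finset.mem_univ _, (Finset.mem_filter.1 hy).2⟩
  have h3 : ∀ e ∈ B, (A.filter fun y => q y = e).card = 3 := by
    intro e he
    obtain ⟨y0, rfl⟩ := h.surj e
    rw [← h.card3, Nat.card_eq_fintype_card, ← Finset.card_univ]
    refine Finset.card_bij' (fun y _ => if hy : y0⁻¹ * y ∈ q.ker then ⟨y0⁻¹ * y, hy⟩ else 1) (fun z _ => y0 * z.1)
      (fun _ _ => Finset.mem_univ _) ?_ ?_ ?_
    · intro z _
      have hz : q z.1 = 1 := MonoidHom.mem_ker.1 z.2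
      rw [Finset.mem_filter, hA, Finset.mem_filter, map_mul, hz, mul_one]
      exact ⟨⟨Finset.mem_univ _, (Finset.mem_filter.1 he).2⟩, rfl⟩
    · intro y hy
      have h4 : q y = q y0 := (Finset.mem_filter.1 hy).2
      have h5 : y0⁻¹ * y ∈ q.ker := by rw [MonoidHom.mem_ker, map_mul, map_inv, h4, inv_mul_cancel]
      rw [dif_pos h5]
      show y0 * (y0⁻¹ * y) = y
      group
    · intro z _
      have h5 : y0⁻¹ * (y0 * z.1) ∈ q.ker := by rw [inv_mul_cancel_left]; exact z.2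
      rw [dif_pos h5]
      apply Subtype.ext
      show y0⁻¹ * (y0 * z.1) = z.1
      group
  rw [h1, h2, Finset.card_eq_sum_card_fiberwise (s := A) (f := q) (t := B) hm, Finset.sum_const_nat h3, mul_comm]

end Cv

end Cfsg.Agent.H611.S8
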