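import Cfsg.Agent.H611.S8.RankB

/-!
# The intersection numbers (helper611, for S4908, row `3.Fi24'`)
-/

set_option autoImplicit false
set_option linter.unusedSectionVars false

namespace Cfsg.Agent.H611.S8

open Subgroup MulAction

variable {P K : Type} [Group P] [Group K]

/-- the classes -/
def Cs (q : P →* K) (L : Set K) (t0 : P) (j : Fin 5) : Set P := {y | q y ∈ L ∧ cls q t0 y = j}

/-- the neighbours in a class -/
def Ds (q : P →* K) (L : Set K) (t0 x : P) (j : Fin 5) : Set P := {y | (q y ∈ L ∧ cls q t0 y = j) ∧ Adj q x y}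

namespace Cv

variable {q : P →* K} {E : Subgroup K} {L : Set K} {k l lam : ℕ}
  {t0 s0 r0 g0 z0 : P} (h : Cv q E L k l lam t0 s0 r0 g0 z0)

include h

variable [Finite P]

theorem finK : Finite K := Finite.of_surjective q h.surj

theorem Cs0 : (Cs q L t0 0).ncard = 1 := by
  have h1 : Cs q L t0 0 = {t0} := by
    ext y
    constructor
    · rintro ⟨-, h2⟩
      exact cls0.1 h2
    · rintro rfl
      exact ⟨h.ht0, cls0.2 rfl⟩
  rw [h1, Set.ncard_singleton]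

theorem Cs1 : (Cs q L t0 1).ncard = 2 := by
  have h1 : Cs q L t0 1 = {y | q y ∈ ({q t0} : Set K)} \ {t0} := by
    ext y
    constructor
    · rintro ⟨-, h2⟩
      exact ⟨(cls1.1 h2).2, (cls1.1 h2).1⟩
    · rintro ⟨h2, h3⟩
      have h4 : q y = q t0 := h2
      exact ⟨by rw [h4]; exact h.ht0, cls1.2 ⟨h3, h4⟩⟩
  have hm : t0 ∈ {y | q y ∈ ({q t0} : Set K)} := rfl
  rw [h1, Set.ncard_sdiff_singleton_of_mem hm, h.pre, Set.ncard_singleton]

/-- the lifts commuting with `x` -/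
theorem deg {x : P} (hx : q x ∈ L) : {y | q y ∈ L ∧ Adj q x y}.ncard = k := by
  have h1 : q '' {y | q y ∈ L ∧ Adj q x y} = {e | e ∈ L ∧ q x ≠ e ∧ Commute (q x) e} := by
    ext e
    constructor
    · rintro ⟨y, ⟨h2, h3, h4⟩, rfl⟩
      exact ⟨h2, h3, h4.map q⟩
    · rintro ⟨h2, h3, h4⟩
      obtain ⟨y, rfl, h5⟩ := h.lift hx h2 h4
      exact ⟨y, ⟨h2, h3, h5⟩, rfl⟩
  rw [← h.cardk _ hx, ← h1]
  refine (Set.InjOn.ncard_image ?_).symm
  rintro y ⟨_, _, h4⟩ y' ⟨_, _, h4'⟩ hyy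
  exact h.uniq hx hyy h4 h4'

theorem Cs2_eq : Cs q L t0 2 = {y | q y ∈ L ∧ Adj q t0 y} := by
  ext y
  constructor
  · rintro ⟨h2, h3⟩
    exact ⟨h2, (cls2.1 h3).1.symm, (cls2.1 h3).2⟩
  · rintro ⟨h2, h3, h4⟩
    exact ⟨h2, cls2.2 ⟨h3.symm, h4⟩⟩

theorem Cs2 : (Cs q L t0 2).ncard = k := by rw [h.Cs2_eq, h.deg h.ht0]

theorem Cs3 : (Cs q L t0 3).ncard = 2 * k := by
  have h1 : Cs q L t0 3 = {y | q y ∈ {e | e ∈ L ∧ q t0 ≠ e ∧ Commute (q t0) e}} \ Cs q L t0 2 := by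
    ext y
    constructor
    · rintro ⟨h2, h3⟩
      obtain ⟨h4, h5, h6⟩ := cls3.1 h3
      exact ⟨⟨h2, h4.symm, h6⟩, fun h7 => h5 (cls2.1 h7.2).2⟩
    · rintro ⟨⟨h2, h3, h4⟩, h5⟩
      exact ⟨h2, cls3.2 ⟨h3.symm, fun h6 => h5 ⟨h2, cls2.2 ⟨h3.symm, h6⟩⟩, h4⟩⟩
  have h2 : Cs q L t0 2 ⊆ {y | q y ∈ {e | e ∈ L ∧ q t0 ≠ e ∧ Commute (q t0) e}} := by
    rintro y ⟨h2, h3⟩
    exact ⟨h2, (cls2.1 h3).1.symm, (cls2.1 h3).2.map q⟩
  rw [h1, Set.ncard_sdiff h2, h.pre, h.cardk _ h.ht0, h.Cs2]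
  omega

theorem Cs4 : (Cs q L t0 4).ncard = 3 * l := by
  have hK := h.finK
  have h1 : Cs q L t0 4 = {y | q y ∈ L \ (insert (q t0) {e | e ∈ L ∧ q t0 ≠ e ∧ Commute (q t0) e})} := by
    ext y
    constructor
    · rintro ⟨h2, h3⟩
      have h4 := cls4.1 h3
      refine ⟨h2, ?_⟩
      rintro (h5 | ⟨-, -, h5⟩)
      · rw [h5] at h4
        exact h4 (Commute.refl _)
      · exact h4 h5
    · rintro ⟨h2, h3⟩
      refine ⟨h2, cls4.2 fun h4 => h3 ?_⟩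
      by_cases h5 : q y = q t0
      · exact Or.inl h5
      · exact Or.inr ⟨h2, Ne.symm h5, h4⟩
  have h2 : insert (q t0) {e | e ∈ L ∧ q t0 ≠ e ∧ Commute (q t0) e} ⊆ L := by
    rintro e (rfl | ⟨h2, -⟩)
    · exact h.ht0
    · exact h2
  rw [h1, h.pre, Set.ncard_sdiff h2, h.cardn, Set.ncard_insert_of_notMem (fun h3 => h3.2.1 rfl), h.cardk _ h.ht0]
  congr 1
  omega

/-- the sizes -/
theorem Cs_card (j : Fin 5) : (Cs q L t0 j).ncard = (![1, 2, k, 2 * k, 3 * l] : Fin 5 → ℕ) j := by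
  fin_cases j
  · exact h.Cs0
  · exact h.Cs1
  · exact h.Cs2
  · exact h.Cs3
  · exact h.Cs4

theorem Ds_const {x : P} (hx : q x ∈ L) (j : Fin 5) :
    (Ds q L t0 x j).ncard = (Ds q L t0 (rp t0 s0 r0 z0 (cls q t0 x)) j).ncard := by
  obtain ⟨g, hg1, hg2⟩ := h.c_tr hx
  have h1 : Ds q L t0 x j = (fun y => g * y * g⁻¹) '' Ds q L t0 (rp t0 s0 r0 z0 (cls q t0 x)) j := by
    ext y
    constructor
    · rintro ⟨⟨h2, h3⟩, h4⟩
      have e : g * (g⁻¹ * y * g) * g⁻¹ = y := by group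
      refine ⟨g⁻¹ * y * g, ⟨⟨?_, ?_⟩, ?_⟩, e⟩
      · simp only [map_mul, map_inv]
        have := h.conj _ h2 (q g)⁻¹
        rwa [inv_inv] at this
      · rw [← cls_conj hg1, e, h3]
      · rw [← adj_conj g, hg2, e]
        exact h4
    · rintro ⟨y, ⟨⟨h2, h3⟩, h4⟩, rfl⟩
      refine ⟨⟨?_, ?_⟩, ?_⟩
      · simp only [map_mul, map_inv]
        exact h.conj _ h2 (q g)
      · rw [cls_conj hg1, h3]
      · conv_lhs => rw [← hg2]
        exact (adj_conj g).2 h4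
  rw [h1, Set.ncard_image_of_injective _ fun a b hab => conj_inj.1 hab]

omit h in
theorem ncard_filter (p : P → Prop) [Fintype P] [DecidablePred p] :
    {y | p y}.ncard = (Finset.univ.filter p).card := by
  rw [← Set.ncard_coe_finset]
  congr 1
  ext y
  simp

/-- row sums -/
theorem row_sum {x : P} (hx : q x ∈ L) : ∑ j, (Ds q L t0 x j).ncard = k := by
  classical
  have := Fintype.ofFinite P
  have h1 := h.deg hx
  rw [ncard_filter, Finset.card_eq_sum_card_fiberwise (f := cls q t0) (t := Finset.univ)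
    (fun y _ => Finset.mem_univ _)] at h1
  rw [← h1]
  refine Finset.sum_congr rfl fun j _ => ?_
  rw [Finset.filter_filter, ← ncard_filter]
  congr 1
  ext y
  exact ⟨fun h => ⟨⟨h.1.1, h.2⟩, h.1.2⟩, fun h => ⟨⟨h.1.1, h.2⟩, h.1.2⟩⟩

/-- symmetry -/
theorem sym (i j : Fin 5) : (Cs q L t0 i).ncard * (Ds q L t0 (rp t0 s0 r0 z0 i) j).ncard =
    (Cs q L t0 j).ncard * (Ds q L t0 (rp t0 s0 r0 z0 j) i).ncard := by
  classical
  have := Fintype.ofFinite P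
  have key : ∀ i j : Fin 5, (Cs q L t0 i).ncard * (Ds q L t0 (rp t0 s0 r0 z0 i) j).ncard =
      ∑ x ∈ Finset.univ.filter (fun x => q x ∈ L ∧ cls q t0 x = i),
        ((Finset.univ.filter (fun y => q y ∈ L ∧ cls q t0 y = j)).filter fun y => Adj q x y).card := by
    intro i j
    have h1 : (Cs q L t0 i).ncard = (Finset.univ.filter (fun x => q x ∈ L ∧ cls q t0 x = i)).card :=
      ncard_filter _
    rw [h1, Finset.sum_const_nat]
    intro x hx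
    obtain ⟨h2, h3⟩ := (Finset.mem_filter.1 hx).2
    rw [Finset.filter_filter, ← ncard_filter]
    have h4 := h.Ds_const h2 j
    rw [h3] at h4
    exact h4
  rw [key i j, key j i]
  have h5 := Finset.sum_card_bipartiteAbove_eq_sum_card_bipartiteBelow (Adj q)
    (s := Finset.univ.filter (fun x => q x ∈ L ∧ cls q t0 x = i))
    (t := Finset.univ.filter (fun y => q y ∈ L ∧ cls q t0 y = j))
  unfold Finset.bipartiteAbove Finset.bipartiteBelow at h5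
  rw [h5]
  refine Finset.sum_congr rfl fun y _ => ?_
  congr 1
  refine Finset.filter_congr fun x _ => ?_
  exact adj_comm

/-! ### The entries -/

theorem d0 (j : Fin 5) (hj : j ≠ 2) : (Ds q L t0 (rp t0 s0 r0 z0 0) j).ncard = 0 := by
  rw [Set.ncard_eq_zero]
  ext y
  simp only [Set.mem_empty_iff_false, iff_false]
  rintro ⟨⟨-, h2⟩, h3, h4⟩
  exact hj (h2.symm.trans (cls2.2 ⟨h3.symm, h4⟩))

theorem d1 (j : Fin 5) (hj : j ≠ 3) : (Ds q L t0 (rp t0 s0 r0 z0 1) j).ncard = 0 := by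
  rw [Set.ncard_eq_zero]
  ext y
  simp only [Set.mem_empty_iff_false, iff_false]
  rintro ⟨⟨h1, h2⟩, h3, h4⟩
  have h3' : q (z0 * t0 * z0⁻¹) ≠ q y := h3
  rw [h.q_conj_z] at h3'
  have h4' : Commute y (z0 * t0 * z0⁻¹) := h4.symm
  refine hj (h2.symm.trans (cls3.2 ⟨h3'.symm, fun h5 => h.not_comm_z h1 h.ht0 h5.symm h4', ?_⟩))
  have h6 := (h4'.map q).symm
  rwa [h.q_conj_z] at h6

/-- a neighbour of `s0` above a neighbour of `t0` is a neighbour of `t0` -/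
theorem tri {y : P} (hy : q y ∈ L) (h1 : Commute s0 y) (h2 : Commute (q t0) (q y)) : Commute t0 y := by
  obtain ⟨v, hv, htv⟩ := h.lift h.ht0 hy h2
  have h3 : Commute s0 v := h.comm_of h.ht0 h.tsc htv (by rw [hv]; exact h1.map q)
  rw [h.uniq h.hs0 hv.symm h1 h3]
  exact htv

theorem d23 : (Ds q L t0 (rp t0 s0 r0 z0 2) 3).ncard = 0 := by
  rw [Set.ncard_eq_zero]
  ext y
  simp only [Set.mem_empty_iff_false, iff_false]
  rintro ⟨⟨h1, h2⟩, h3, h4⟩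
  obtain ⟨-, h6, h7⟩ := cls3.1 h2
  exact h6 (h.tri h1 h4 h7)

theorem d22 : (Ds q L t0 (rp t0 s0 r0 z0 2) 2).ncard = lam := by
  have h1 : q '' Ds q L t0 (rp t0 s0 r0 z0 2) 2 =
      {e | e ∈ L ∧ (q s0 ≠ e ∧ Commute (q s0) e) ∧ (q t0 ≠ e ∧ Commute (q t0) e)} := by
    ext e
    constructor
    · rintro ⟨y, ⟨⟨h2, h3⟩, h4, h5⟩, rfl⟩
      obtain ⟨h6, h7⟩ := cls2.1 h3
      exact ⟨h2, ⟨h4, h5.map q⟩, h6.symm, h7.map q⟩
    · rintro ⟨h2, ⟨h3, h4⟩, h5, h6⟩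
      obtain ⟨y, rfl, h7⟩ := h.lift h.hs0 h2 h4
      exact ⟨y, ⟨⟨h2, cls2.2 ⟨h5.symm, h.tri h2 h7 h6⟩⟩, h3, h7⟩, rfl⟩
  rw [← h.cardlam, ← h1]
  refine (Set.InjOn.ncard_image ?_).symm
  rintro y ⟨⟨_, _⟩, _, h4⟩ y' ⟨⟨_, _⟩, _, h4'⟩ hyy
  exact h.uniq h.hs0 hyy h4 h4'

theorem d33 : (Ds q L t0 (rp t0 s0 r0 z0 3) 3).ncard = lam := by
  rw [← h.d22]
  have h1 : Ds q L t0 (rp t0 s0 r0 z0 3) 3 = (fun y => z0 * y * z0⁻¹) '' Ds q L t0 (rp t0 s0 r0 z0 2) 2 := by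
    ext y
    constructor
    · rintro ⟨⟨h2, h3⟩, h4⟩
      have e : z0 * (z0⁻¹ * y * z0) * z0⁻¹ = y := by group
      have e2 : q (z0⁻¹ * y * z0) = q y := by
        simp only [map_mul, map_inv]
        rw [h.q_z0]
        group
      obtain ⟨h5, -, h7⟩ := cls3.1 h3
      have h8 : Adj q s0 (z0⁻¹ * y * z0) := by
        rw [← adj_conj z0, e]
        exact h4
      refine ⟨z0⁻¹ * y * z0, ⟨⟨by rw [e2]; exact h2, cls2.2 ⟨by rw [e2]; exact h5, ?_⟩⟩, h8⟩, e⟩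
      exact h.tri (by rw [e2]; exact h2) h8.2 (by rw [e2]; exact h7)
    · rintro ⟨y, ⟨⟨h2, h3⟩, h4⟩, rfl⟩
      obtain ⟨h5, h6⟩ := cls2.1 h3
      refine ⟨⟨?_, cls3.2 ⟨?_, h.not_comm_z h.ht0 h2 h6, ?_⟩⟩, (adj_conj z0).2 h4⟩
      · rw [h.q_conj_z]; exact h2
      · rw [h.q_conj_z]; exact h5
      · rw [h.q_conj_z]; exact h6.map q
  rw [h1, Set.ncard_image_of_injective _ fun a b hab => conj_inj.1 hab]

end Cv

end Cfsg.Agent.H611.S8
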