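import Cfsg.Agent.H611.S8.RankC

/-!
# The character of degree 1566 (helper611, for S4908, row `3.Fi24'`)
-/

set_option autoImplicit false
set_option linter.unusedSectionVars false

namespace Cfsg.Agent.H611.S8

open Subgroup MulAction Cfsg Cfsg.Agent.H593 Cfsg.Agent.H593.IMFrame
open scoped ComplexConjugate

variable {P K : Type} [Group P] [Group K]

/-- the points -/
abbrev Pt (q : P →* K) (L : Set K) : Type := {t : P // q t ∈ L}

/-- the action by conjugation -/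
@[reducible] def act (q : P →* K) (L : Set K) (hc : ∀ d ∈ L, ∀ g, g * d * g⁻¹ ∈ L) : MulAction P (Pt q L) where
  smul g x := ⟨g * x.1 * g⁻¹, by rw [map_mul, map_mul, map_inv]; exact hc _ x.2 _⟩
  one_smul x := Subtype.ext (by show 1 * x.1 * 1⁻¹ = x.1; group)
  mul_smul g g' x := Subtype.ext (by show g * g' * x.1 * (g * g')⁻¹ = g * (g' * x.1 * g'⁻¹) * g⁻¹; group)

/-- the subdegrees -/
def sz : Fin 5 → ℕ := ![1, 2, 31671, 63342, 825792]

/-- the intersection matrix -/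
def Mm : Fin 5 → Fin 5 → ℕ :=
  ![![0, 0, 31671, 0, 0], ![0, 0, 0, 31671, 0], ![1, 0, 3510, 0, 28160], ![0, 1, 0, 3510, 28160],
    ![0, 0, 1080, 2160, 28431]]

/-- the spherical function -/
def Vv : Fin 5 → ℚ := ![1, -1 / 2, 1 / 9, -1 / 18, 0]

namespace Cv

variable {q : P →* K} {E : Subgroup K} {L : Set K}
  {t0 s0 r0 g0 z0 : P} (h : Cv q E L 31671 275264 3510 t0 s0 r0 g0 z0)

include h

theorem Cs_sz [Finite P] (j : Fin 5) : (Cs q L t0 j).ncard = sz j := by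
  rw [h.Cs_card]
  fin_cases j <;> rfl

theorem Ds_M [Finite P] (i j : Fin 5) : (Ds q L t0 (rp t0 s0 r0 z0 i) j).ncard = Mm i j := by
  set N : Fin 5 → Fin 5 → ℕ := fun i j => (Ds q L t0 (rp t0 s0 r0 z0 i) j).ncard with hN
  have hrow : ∀ i, N i 0 + N i 1 + N i 2 + N i 3 + N i 4 = 31671 := by
    intro i
    have h1 := h.row_sum (h.rp_mem i)
    rw [Fin.sum_univ_five] at h1
    exact h1
  have hsym : ∀ i j, sz i * N i j = sz j * N j i := by
    intro i j
    have h1 := h.sym i j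
    rw [h.Cs_sz, h.Cs_sz] at h1
    exact h1
  have a00 : N 0 0 = 0 := h.d0 0 (by decide)
  have a01 : N 0 1 = 0 := h.d0 1 (by decide)
  have a03 : N 0 3 = 0 := h.d0 3 (by decide)
  have a04 : N 0 4 = 0 := h.d0 4 (by decide)
  have a10 : N 1 0 = 0 := h.d1 0 (by decide)
  have a11 : N 1 1 = 0 := h.d1 1 (by decide)
  have a12 : N 1 2 = 0 := h.d1 2 (by decide)
  have a14 : N 1 4 = 0 := h.d1 4 (by decide)
  have a22 : N 2 2 = 3510 := h.d22
  have a23 : N 2 3 = 0 := h.d23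
  have a33 : N 3 3 = 3510 := h.d33
  have r0 := hrow 0
  have r1 := hrow 1
  have r2 := hrow 2
  have r3 := hrow 3
  have r4 := hrow 4
  have s02 := hsym 0 2
  have s03 := hsym 0 3
  have s04 := hsym 0 4
  have s12 := hsym 1 2
  have s13 := hsym 1 3
  have s14 := hsym 1 4
  have s23 := hsym 2 3
  have s24 := hsym 2 4
  have s34 := hsym 3 4
  simp only [show sz 0 = 1 from rfl, show sz 1 = 2 from rfl, show sz 2 = 31671 from rfl, show sz 3 = 63342 from rfl,
    show sz 4 = 825792 from rfl] at s02 s03 s04 s12 s13 s14 s23 s24 s34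
  show N i j = Mm i j
  clear_value N
  have b02 : N 0 2 = 31671 := by omega
  have b13 : N 1 3 = 31671 := by omega
  have b20 : N 2 0 = 1 := by omega
  have b21 : N 2 1 = 0 := by omega
  have b24 : N 2 4 = 28160 := by omega
  have b30 : N 3 0 = 0 := by omega
  have b31 : N 3 1 = 1 := by omega
  have b32 : N 3 2 = 0 := by omega
  have b34 : N 3 4 = 28160 := by omega
  have b40 : N 4 0 = 0 := by omega
  have b41 : N 4 1 = 0 := by omega
  have b42 : N 4 2 = 1080 := by omega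
  have b43 : N 4 3 = 2160 := by omega
  have b44 : N 4 4 = 28431 := by omega
  fin_cases i <;> fin_cases j
  exacts [a00, a01, b02, a03, a04, a10, a11, a12, b13, a14, b20, b21, a22, a23, b24, b30, b31, b32, a33, b34, b40, b41,
    b42, b43, b44]

variable [Finite P]

theorem rel_a [MulAction P (Pt q L)] (hs : ∀ (g : P) (x : Pt q L), (g • x).1 = g * x.1 * g⁻¹) (j : Fin 5) (y : Pt q L) :
    Rel P (⟨t0, h.ht0⟩ : Pt q L) ⟨rp t0 s0 r0 z0 j, h.rp_mem j⟩ ⟨t0, h.ht0⟩ y ↔ cls q t0 y.1 = j := by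
  constructor
  · rintro ⟨g, h1, h2⟩
    have h3 : g * t0 * g⁻¹ = t0 := by
      have := congrArg Subtype.val h1
      rwa [hs] at this
    rw [← h2, hs, cls_conj h3, h.cls_rp]
  · intro h1
    obtain ⟨g, h2, h3⟩ := h.c_tr y.2
    rw [h1] at h3
    exact ⟨g, Subtype.ext (by rw [hs]; exact h2), Subtype.ext (by rw [hs]; exact h3)⟩

theorem rel_2 [MulAction P (Pt q L)] (hs : ∀ (g : P) (x : Pt q L), (g • x).1 = g * x.1 * g⁻¹) (x y : Pt q L) :
    Rel P (⟨t0, h.ht0⟩ : Pt q L) ⟨rp t0 s0 r0 z0 2, h.rp_mem 2⟩ x y ↔ Adj q x.1 y.1 := by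
  constructor
  · rintro ⟨g, h1, h2⟩
    rw [← h1, ← h2, hs, hs, adj_conj]
    exact ⟨h.ts, h.tsc⟩
  · rintro ⟨h1, h2⟩
    obtain ⟨g, -, h3, h4⟩ := h.pair2 h.ht0 h.hs0 x.2 y.2 h.tsc h.ts h2 h1
    exact ⟨g, Subtype.ext (by rw [hs]; exact h3), Subtype.ext (by rw [hs]; exact h4)⟩

theorem sub [MulAction P (Pt q L)] (hs : ∀ (g : P) (x : Pt q L), (g • x).1 = g * x.1 * g⁻¹) :
    Sub P (Pt q L) ⟨t0, h.ht0⟩ (fun i => (⟨rp t0 s0 r0 z0 i, h.rp_mem i⟩ : Pt q L)) sz where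
  trans := ⟨fun x y => by
    obtain ⟨g, -, hg⟩ := h.tr1 _ x.2 _ y.2
    obtain ⟨g, rfl⟩ := h.surj g
    obtain ⟨g', -, hg'⟩ := h.adjust y.2 hg
    exact ⟨g', Subtype.ext (by rw [hs]; exact hg')⟩⟩
  card := fun i => by
    have h1 : MulAction.orbit (MulAction.stabilizer P (⟨t0, h.ht0⟩ : Pt q L)) (⟨rp t0 s0 r0 z0 i, h.rp_mem i⟩ : Pt q L) =
        {y | cls q t0 y.1 = i} := by
      ext y
      rw [Set.mem_ofPred_eq, ← h.rel_a hs]
      constructor
      · rintro ⟨g, hg⟩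
        exact ⟨g.1, g.2, hg⟩
      · rintro ⟨g, hg1, hg2⟩
        exact ⟨⟨g, hg1⟩, hg2⟩
    rw [h1, ← h.Cs_sz, ← Set.ncard_image_of_injective _ Subtype.val_injective]
    congr 1
    ext y
    constructor
    · rintro ⟨y, h2, rfl⟩
      exact ⟨y.2, h2⟩
    · rintro ⟨h2, h3⟩
      exact ⟨⟨y, h2⟩, h3, rfl⟩
  inj := by decide
  sum := by
    have h1 := h.pre L
    rw [h.cardn] at h1
    have h2 : Nat.card (Pt q L) = {y : P | q y ∈ L}.ncard := rfl
    rw [h2, h1, Fin.sum_univ_five]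
    rfl

/-- **the character of degree 1566** -/
theorem exists_chi : ∃ χ : IrrCharacter P, charDegree (χ : P → ℂ) = 1566 ∧ ∃ g, (χ : P → ℂ) (z0 * g) ≠ (χ : P → ℂ) g := by
  classical
  have := Fintype.ofFinite P
  let _ := act q L h.conj
  have := Fintype.ofFinite (Pt q L)
  have hs : ∀ (g : P) (x : Pt q L), (g • x).1 = g * x.1 * g⁻¹ := fun _ _ => rfl
  have hsub := h.sub hs
  obtain ⟨χ, hχ, hdeg⟩ := Cfsg.Agent.H894.PQ.Hecke.exists_sph hsub 2 0 rfl Mm (fun i j => by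
    rw [← h.Ds_M i j, ← Set.ncard_image_of_injective _ Subtype.val_injective]
    congr 1
    ext y
    constructor
    · rintro ⟨y, ⟨h2, h3⟩, rfl⟩
      exact ⟨⟨y.2, (h.rel_a hs j y).1 h3⟩, (h.rel_2 hs _ y).1 h2⟩
    · rintro ⟨⟨h2, h3⟩, h4⟩
      exact ⟨⟨y, h2⟩, ⟨(h.rel_2 hs _ _).2 h4, (h.rel_a hs j _).2 h3⟩, rfl⟩) 3519 Vv rfl (by
      intro i
      rw [Fin.sum_univ_five]
      fin_cases i <;> simp [Mm, Vv] <;> norm_num) (by
      intro x hx
      have e0 := hx 0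
      have e1 := hx 1
      have e2 := hx 2
      have e4 := hx 4
      rw [Fin.sum_univ_five] at e0 e1 e2 e4
      simp [Mm] at e0 e1 e2 e4
      have f2 : x 2 = x 0 / 9 := by linear_combination (1 / 31671) * e0
      have f4 : x 4 = 0 := by linear_combination (1 / 28160) * e2 + (9 / 28160) * f2
      have f3 : x 3 = x 1 / 9 := by linear_combination (1 / 31671) * e1
      have f1 : x 1 = -(x 0 / 2) := by
        linear_combination (9 / 2160) * e4 - 9 * f3 - (9 * 1080 / 2160) * f2 + (9 * (3519 - 28431) / 2160) * f4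
      intro i
      fin_cases i
      · simp [Vv]
      · simp [Vv]
        linear_combination f1
      · simp [Vv]
        linear_combination f2
      · simp [Vv]
        linear_combination f3 + (1 / 9) * f1
      · simp [Vv]
        exact f4)
  refine ⟨χ, ?_, ?_⟩
  · have h1 := h.pre L
    rw [h.cardn] at h1
    have h2 : Nat.card (Pt q L) = 920808 := h1.trans (by norm_num)
    rw [h2, Fin.sum_univ_five] at hdeg
    simp [sz, Vv] at hdeg
    have h3 : (charDegree (χ : P → ℂ) : ℚ) = 1566 := by linear_combination (1 / 588) * hdeg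
    exact_mod_cast h3
  · by_contra hcon
    push Not at hcon
    have h1 := hχ 1
    have h0 := hχ 0
    have h2 : (⟨rp t0 s0 r0 z0 1, h.rp_mem 1⟩ : Pt q L) = z0 • (⟨rp t0 s0 r0 z0 0, h.rp_mem 0⟩ : Pt q L) :=
      Subtype.ext rfl
    have h3 : ∀ x y : Pt q L, IMFrame.E (χ : P → ℂ) (z0 • x) y = IMFrame.E (χ : P → ℂ) x y := by
      intro x y
      unfold Cfsg.Agent.H593.IMFrame.E
      congr 1
      refine Fintype.sum_equiv (Equiv.mulLeft z0⁻¹) _ _ fun g => ?_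
      rw [Equiv.coe_mulLeft]
      have e : (χ : P → ℂ) g = (χ : P → ℂ) (z0⁻¹ * g) := by rw [← hcon (z0⁻¹ * g), mul_inv_cancel_left]
      have e2 : (g • y = z0 • x) ↔ ((z0⁻¹ * g) • y = x) := by rw [mul_smul, inv_smul_eq_iff]
      by_cases hc : g • y = z0 • x
      · rw [if_pos hc, if_pos (e2.1 hc), e]
      · rw [if_neg hc, if_neg fun h5 => hc (e2.2 h5)]
    have h4 : IMFrame.E (χ : P → ℂ) (⟨t0, h.ht0⟩ : Pt q L) (⟨rp t0 s0 r0 z0 1, h.rp_mem 1⟩ : Pt q L) =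
        IMFrame.E (χ : P → ℂ) (⟨t0, h.ht0⟩ : Pt q L) (⟨rp t0 s0 r0 z0 0, h.rp_mem 0⟩ : Pt q L) := by
      rw [h2, ← conj_E (Cfsg.Agent.Characters.Core.isIrr_isCharacter χ.2), h3,
        conj_E (Cfsg.Agent.Characters.Core.isIrr_isCharacter χ.2)]
    beta_reduce at h1 h0
    have h1' : IMFrame.E (χ : P → ℂ) (⟨t0, h.ht0⟩ : Pt q L) (⟨rp t0 s0 r0 z0 1, h.rp_mem 1⟩ : Pt q L) =
        ((Vv 1 : ℚ) : ℂ) * ((charDegree (χ : P → ℂ) : ℂ) / Nat.card (Pt q L)) := by
      convert h1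
    have h0' : IMFrame.E (χ : P → ℂ) (⟨t0, h.ht0⟩ : Pt q L) (⟨rp t0 s0 r0 z0 0, h.rp_mem 0⟩ : Pt q L) =
        ((Vv 0 : ℚ) : ℂ) * ((charDegree (χ : P → ℂ) : ℂ) / Nat.card (Pt q L)) := by
      convert h0
    rw [h4, h0'] at h1'
    have h5 : (charDegree (χ : P → ℂ) : ℂ) / Nat.card (Pt q L) ≠ 0 := by
      refine div_ne_zero ?_ (Nat.cast_ne_zero.2 ?_)
      · rw [charDegree_eq χ.2]
        exact Cfsg.Agent.Characters.Core.isIrr_apply_one_ne_zero χ.2
      · have : Nonempty (Pt q L) := ⟨⟨t0, h.ht0⟩⟩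
        exact Nat.card_pos.ne'
    have h6 := mul_right_cancel₀ h5 h1'
    simp [Vv] at h6
    norm_num at h6

end Cv

end Cfsg.Agent.H611.S8
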